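import Mathlib
import Groth.Prelude.Def_EGA43
import Groth.Prelude.Def_MoreMor
import Groth.Agent.SecComp.GeomCount
import Groth.Agent.Wt.GenFibCons
import Groth.Agent.Hens.ProperClopenGen
import Groth.Agent.Hens.ClopenComponents
import Groth.Agent.EtSection.NormalSH
import Groth.Agent.SecDim.Open
import Groth.Agent.SchPoints.Basic

/-!
# Geometric connected components of the fibres of proper morphisms along specializations
-/

set_option autoImplicit false
set_option linter.style.haveILetI false

universe u

open CategoryTheory CategoryTheory.Limits AlgebraicGeometry Topology TopologicalSpace IsLocalRing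

namespace Groth.Agent.ProperConn

lemma card_le_of_surjective {α β : Type u} {f : α → β} (hf : Function.Surjective f) :
    ENat.card β ≤ ENat.card α :=
  ENat.card_le_card_of_injective (Function.injective_surjInv hf)

lemma finite_connectedComponents {T : Type u} [TopologicalSpace T] [CompactSpace T]
    (h : ∀ x : T, IsOpen (connectedComponent x)) : Finite (ConnectedComponents T) := by
  haveI : DiscreteTopology (ConnectedComponents T) := by
    refine discreteTopology_iff_isOpen_singleton.2 fun c => ?_
    obtain ⟨x, rfl⟩ := ConnectedComponents.surjective_coe c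
    rw [← ConnectedComponents.isQuotientMap_coe.isOpen_preimage, connectedComponents_preimage_singleton]
    exact h x
  exact finite_of_compact_of_discrete

lemma isOpen_connectedComponent {T : Type u} [TopologicalSpace T] [Finite (ConnectedComponents T)]
    (x : T) : IsOpen (connectedComponent x) := by
  rw [← connectedComponents_preimage_singleton]
  exact (isOpen_discrete _).preimage ConnectedComponents.continuous_coe

lemma finite_connectedComponents_of_noetherian {T : Type u} [TopologicalSpace T]
    [NoetherianSpace T] : Finite (ConnectedComponents T) :=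
  finite_connectedComponents fun x => SchPoints.isOpen_connectedComponent_of_noetherian x

lemma isAlgClosed_residueField (R : Type u) [CommRing R] [IsDomain R] [IsLocalRing R]
    [IsIntegrallyClosed R] (K : Type u) [Field K] [Algebra R K] [IsFractionRing R K] [IsAlgClosed K] :
    IsAlgClosed (ResidueField R) := by
  refine IsAlgClosed.of_exists_root _ fun p hp hirr => ?_
  obtain ⟨f, hfp, hdeg, hf⟩ := Polynomial.lifts_and_degree_eq_and_monic
    (Polynomial.map_surjective (residue R) residue_surjective p) hp
  have hd : (f.map (algebraMap R K)).degree ≠ 0 := by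
    rw [hf.degree_map, hdeg]
    exact (Polynomial.degree_pos_of_irreducible hirr).ne'
  obtain ⟨z, hz⟩ := IsAlgClosed.exists_root (f.map (algebraMap R K)) hd
  have hzi : IsIntegral R z := ⟨f, hf, by rw [Polynomial.eval₂_eq_eval_map]; exact hz⟩
  obtain ⟨r, rfl⟩ := IsIntegrallyClosed.isIntegral_iff.1 hzi
  refine ⟨residue R r, ?_⟩
  rw [Polynomial.IsRoot, Polynomial.eval_map, Polynomial.eval₂_at_apply,
    map_eq_zero_iff _ (IsFractionRing.injective R K)] at hz
  rw [← hfp, Polynomial.eval_map, Polynomial.eval₂_at_apply, hz, map_zero]

/-- The generic point lies in every open set of the spectrum of a local ring containing the closed point. -/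
lemma eq_top_of_closedPoint_mem {R : Type u} [CommRing R] [IsLocalRing R] {U : Set (PrimeSpectrum R)}
    (hU : U ∈ nhds (closedPoint R)) (t : PrimeSpectrum R) : t ∈ U := by
  obtain ⟨O, hO, hOo, hc⟩ := mem_nhds_iff.1 hU
  exact hO ((specializes_closedPoint t).mem_open hOo hc)

variable {X Y : Scheme.{u}}

/-- A geometric number of connected components of a proper morphism is finite. -/
theorem nGeom_ne_top (f : X ⟶ Y) [LocallyOfFiniteType f] [QuasiCompact f] (y : Y) :
    MoreMor.nGeomConnComp f y ≠ ⊤ := by
  obtain ⟨L, _, _, pt, hpt⟩ := SecComp.exists_algClosed_point Y y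
  rw [← hpt (closedPoint L), ← (SecComp.nGeom_eq f pt).2]
  haveI : LocallyOfFiniteType (pullback.snd f pt) :=
    inferInstance
  haveI : QuasiCompact (pullback.snd f pt) := inferInstance
  haveI : IsLocallyNoetherian (pullback f pt) := LocallyOfFiniteType.isLocallyNoetherian (pullback.snd f pt)
  haveI : CompactSpace ↥(pullback f pt) := QuasiCompact.compactSpace_of_compactSpace (pullback.snd f pt)
  haveI : IsNoetherian (pullback f pt) := {}
  haveI := finite_connectedComponents_of_noetherian (T := ↥(pullback f pt))
  exact ENat.card_lt_top_of_finite.ne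

/-- For a proper morphism which is universally open along the fibre over `y`, the geometric number
of connected components does not increase under specialization to `y`. -/
theorem le_of_specializes (f : X ⟶ Y) [IsProper f] {y' y : Y} (hyy : y' ⤳ y)
    (h : ∀ x : X, f x = y → EGA43.IsUnivOpenAt f x) :
    MoreMor.nGeomConnComp f y ≤ MoreMor.nGeomConnComp f y' := by
  let K : Type u := AlgebraicClosure (Y.residueField y')
  let ι : Y.residueField y' →+* K := algebraMap _ _
  let χ : Y.presheaf.stalk y →+* K := (ι.comp (Y.residue y').hom).comp (Y.presheaf.stalkSpecializes hyy).hom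
  obtain ⟨V, hV, hloc⟩ := IsLocalRing.exists_factor_valuationRing χ
  let ψ : CommRingCat.of (Y.presheaf.stalk y) ⟶ CommRingCat.of V :=
    CommRingCat.ofHom (χ.codRestrict V.toSubring hV)
  haveI : IsLocalHom ψ.hom := hloc
  haveI : IsAlgClosed (ResidueField V) := isAlgClosed_residueField V K
  haveI hH : HenselianLocalRing V := (EtSection.isStrictlyHenselian_of_normal (R := V) K).1
  let g : Spec (CommRingCat.of V) ⟶ Y := Spec.map ψ ≫ Y.fromSpecStalk y
  let res : Spec (CommRingCat.of (ResidueField V)) ⟶ Spec (CommRingCat.of V) :=
    Spec.map (CommRingCat.ofHom (residue V))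
  let gen : Spec (CommRingCat.of K) ⟶ Spec (CommRingCat.of V) :=
    Spec.map (CommRingCat.ofHom (algebraMap V K))
  have hgc : g (closedPoint V) = y := by
    show Y.fromSpecStalk y (Spec.map ψ (closedPoint V)) = y
    rw [Spec_closedPoint]
    exact Scheme.fromSpecStalk_closedPoint
  have hgη : ∀ t, (gen ≫ g) t = y' := by
    intro t
    have e : gen ≫ g = Spec.map (CommRingCat.ofHom ι) ≫ Y.fromSpecResidueField y' := by
      rw [Scheme.fromSpecResidueField, ← Scheme.SpecMap_stalkSpecializes_fromSpecStalk hyy]
      simp only [gen, g, ← Category.assoc, ← Spec.map_comp]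
      rfl
    rw [e, Scheme.Hom.comp_apply]
    exact Scheme.fromSpecResidueField_apply _ _
  have hres : ∀ t, res t = closedPoint V := fun t => PrimeSpectrum.ext (by
    show t.asIdeal.comap (residue V) = maximalIdeal V
    rw [(Ideal.eq_bot_or_top t.asIdeal).resolve_right t.2.ne_top, ← RingHom.ker_eq_comap_bot]
    exact ker_residue)
  let q := pullback.snd f g
  let P := pullback q res
  let G := pullback q gen
  haveI : IsProper q := inferInstanceAs (IsProper (pullback.snd f g))
  haveI : CompactSpace ↥(pullback f g) := QuasiCompact.compactSpace_of_compactSpace q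
  haveI : (pullback f g).IsSeparated := ⟨by
    rw [terminal.hom_ext (terminal.from (pullback f g)) (q ≫ terminal.from _)]; infer_instance⟩
  haveI : LocallyOfFiniteType (pullback.snd q res) := inferInstance
  haveI : QuasiCompact (pullback.snd q res) := inferInstance
  haveI : IsLocallyNoetherian P := LocallyOfFiniteType.isLocallyNoetherian (pullback.snd q res)
  haveI : CompactSpace ↥P := QuasiCompact.compactSpace_of_compactSpace (pullback.snd q res)
  haveI : IsNoetherian P := {}
  haveI := finite_connectedComponents_of_noetherian (T := ↥P)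
  have hP : ENat.card (_root_.ConnectedComponents ↥P) = MoreMor.nGeomConnComp f y := by
    rw [Wt.GenFib.card_connectedComponents_of_homeomorph
      (Scheme.homeoOfIso (pullbackLeftPullbackSndIso f g res)), (SecComp.nGeom_eq f (res ≫ g)).2]
    congr 1
    exact (congrArg g (hres _)).trans hgc
  have hG : ENat.card (_root_.ConnectedComponents ↥G) = MoreMor.nGeomConnComp f y' := by
    rw [Wt.GenFib.card_connectedComponents_of_homeomorph
      (Scheme.homeoOfIso (pullbackLeftPullbackSndIso f g gen)), (SecComp.nGeom_eq f (gen ≫ g)).2]
    congr 1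
    exact hgη _
  let i : P ⟶ pullback f g := pullback.fst q res
  haveI : IsClosedImmersion res := IsClosedImmersion.spec_of_surjective _ residue_surjective
  have hr : Set.range i = q ⁻¹' PrimeSpectrum.zeroLocus (maximalIdeal V : Set V) :=
    Hens.ProperClopenLift.range_fst_mk (maximalIdeal V) q
  have hlift : ∀ W : Set ↥P, IsClopen W → ∃! U : Set ↥(pullback f g), IsClopen U ∧ i ⁻¹' U = W :=
    fun W hW => Hens.ProperClopenLift.existsUnique_preimage i.isClosedEmbedding hr
      (fun A hA hA' => Hens.ProperClopenGen.existsUnique_clopen (maximalIdeal V) q hA hA') hW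
  have hbij := Hens.ClopenComponents.bijective_connectedComponentsMap i.continuous hlift
  haveI : Finite (_root_.ConnectedComponents ↥(pullback f g)) := Finite.of_surjective _ hbij.2
  rw [← hP, ← hG, ENat.card_congr (Equiv.ofBijective _ hbij)]
  let j : G ⟶ pullback f g := pullback.fst q gen
  refine card_le_of_surjective (f := j.continuous.connectedComponentsMap) fun c => ?_
  obtain ⟨p, rfl⟩ := hbij.2 c
  obtain ⟨a, rfl⟩ := ConnectedComponents.surjective_coe p
  let w := i a
  have hqw : q w = closedPoint V := by
    show (i ≫ q) a = _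
    rw [show i ≫ q = pullback.snd q res ≫ res from pullback.condition, Scheme.Hom.comp_apply, hres]
  have hfw : f (pullback.fst f g w) = y := by
    rw [← Scheme.Hom.comp_apply, pullback.condition, Scheme.Hom.comp_apply, hqw, hgc]
  have hnhd := h _ hfw _ g w rfl (connectedComponent w)
    ((isOpen_connectedComponent w).mem_nhds mem_connectedComponent)
  rw [show (pullback.snd f g).base w = closedPoint V from hqw] at hnhd
  obtain ⟨z, hz, hqz⟩ := eq_top_of_closedPoint_mem hnhd (⊥ : PrimeSpectrum V)
  have hzr : z ∈ Set.range j := by
    rw [Scheme.Pullback.range_fst]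
    refine ⟨(⊥ : PrimeSpectrum K), ?_⟩
    refine Eq.trans ?_ hqz.symm
    exact PrimeSpectrum.ext (Ideal.comap_bot_of_injective _ (IsFractionRing.injective V K))
  obtain ⟨b, rfl⟩ := hzr
  refine ⟨ConnectedComponents.mk b, ?_⟩
  rw [Continuous.connectedComponentsMap_mk, Continuous.connectedComponentsMap_mk]
  exact ConnectedComponents.coe_eq_coe'.2 hz

lemma isLocallyConstructible_lt (f : X ⟶ Y) [LocallyOfFinitePresentation f] [QuasiCompact f]
    [QuasiSeparated f] : ∀ m : ℕ, IsLocallyConstructible {z : Y | MoreMor.nGeomConnComp f z < m}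
  | 0 => by simp
  | m + 1 => by
    have e : {z : Y | MoreMor.nGeomConnComp f z < (m + 1 : ℕ)} =
        {z : Y | MoreMor.nGeomConnComp f z < m} ∪ {z : Y | MoreMor.nGeomConnComp f z = m} := by
      ext z
      rw [Set.mem_setOf_eq, Nat.cast_add, Nat.cast_one, ENat.lt_add_one_iff (ENat.coe_ne_top m),
        le_iff_lt_or_eq]
      rfl
    rw [e]
    exact (isLocallyConstructible_lt f m).union (Wt.GenFib.isLocallyConstructible_nGeomConnComp f m)

/-- Lower semicontinuity at `y` of the geometric number of connected components. -/
theorem eventually_le (f : X ⟶ Y) [IsProper f] [LocallyOfFinitePresentation f] (y : Y)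
    (h : ∀ x : X, f x = y → EGA43.IsUnivOpenAt f x) :
    {z | MoreMor.nGeomConnComp f y ≤ MoreMor.nGeomConnComp f z} ∈ nhds y := by
  obtain ⟨m, hm⟩ := ENat.ne_top_iff_exists.1 (nGeom_ne_top f y)
  refine SecDim.mem_nhds_of_generizations ?_ fun y' hy' => le_of_specializes f hy' h
  rw [← hm, show {z | (m : ℕ∞) ≤ MoreMor.nGeomConnComp f z} =
    {z : Y | MoreMor.nGeomConnComp f z < m}ᶜ from by ext z; simp]
  exact LimTop.isLocallyConstructible_compl (isLocallyConstructible_lt f m)

lemma isUnivOpenAt_of_flat (f : X ⟶ Y) [Flat f] [LocallyOfFinitePresentation f] (x : X) :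
    EGA43.IsUnivOpenAt f x := fun _ g x' _ U hU => by
  have : IsOpenMap (pullback.snd f g).base := (pullback.snd f g).isOpenMap
  exact this.image_mem_nhds hU

end Groth.Agent.ProperConn
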