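import Groth.Agent.ProperConn.Basic

/-!
# Geometrically connected and geometrically irreducible morphisms by counting
-/

set_option autoImplicit false
set_option linter.style.haveILetI false

universe u

open CategoryTheory CategoryTheory.Limits AlgebraicGeometry Topology TopologicalSpace IsLocalRing

namespace Groth.Agent.ProperConn

variable {X Y : Scheme.{u}}

lemma card_cc_eq_one_iff {T : Type u} [TopologicalSpace T] :
    ENat.card (_root_.ConnectedComponents T) = 1 ↔ ConnectedSpace T := by
  constructor
  · intro h
    obtain ⟨hu⟩ := ENat.card_eq_one_iff_unique.mp h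
    exact
      { toNonempty := ⟨(ConnectedComponents.surjective_coe hu.default).choose⟩
        toPreconnectedSpace := preconnectedSpace_iff_connectedComponent.mpr fun x =>
          Set.eq_univ_of_forall fun z => ConnectedComponents.coe_eq_coe'.mp
            ((hu.uniq _).trans (hu.uniq _).symm) }
  · intro h
    exact ENat.card_eq_one_iff_unique.mpr
      ⟨@Unique.mk' _ ⟨ConnectedComponents.mk (Classical.arbitrary T)⟩ inferInstance⟩

lemma encard_ic_eq_one_iff {T : Type u} [TopologicalSpace T] :
    (irreducibleComponents T).encard = 1 ↔ IrreducibleSpace T := by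
  constructor
  · intro h
    obtain ⟨Z, hZ⟩ := Set.encard_eq_one.mp h
    have huniv : Z = Set.univ := Set.eq_univ_of_forall fun a => by
      have := irreducibleComponent_mem_irreducibleComponents a
      rw [hZ, Set.mem_singleton_iff] at this
      exact this ▸ mem_irreducibleComponent
    have hZi : IsIrreducible Z := (hZ.ge (Set.mem_singleton Z)).1
    exact (irreducibleSpace_def _).2 ((congrArg IsIrreducible (huniv.trans Set.top_eq_univ.symm)).mp hZi)
  · intro h
    rw [irreducibleComponents_eq_singleton, Set.encard_singleton]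

/-- Geometric connectedness by counting. -/
theorem geometricallyConnected_iff_nGeom (f : X ⟶ Y) :
    GeometricallyConnected f ↔ ∀ y, MoreMor.nGeomConnComp f y = 1 := by
  constructor
  · intro h y
    obtain ⟨L, _, _, pt, hpt⟩ := SecComp.exists_algClosed_point Y y
    have h1 : ConnectedSpace ↥(pullback f pt) :=
      GeometricallyConnected.geometrically_connectedSpace _ _ _ (IsPullback.of_hasPullback f pt)
    rw [← hpt (closedPoint L), ← (SecComp.nGeom_eq f pt).2]
    exact card_cc_eq_one_iff.2 h1
  · intro h
    refine ⟨geometrically_iff_of_isClosedUnderIsomorphisms.mpr fun K _ x => ?_⟩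
    let Ω := AlgebraicClosure K
    let ω : Spec (CommRingCat.of Ω) ⟶ Spec (CommRingCat.of K) :=
      Spec.map (CommRingCat.ofHom (algebraMap K Ω))
    haveI : Surjective ω :=
      ⟨fun t => ⟨(closedPoint Ω : PrimeSpectrum Ω), Subsingleton.elim (α := PrimeSpectrum K) _ _⟩⟩
    have hc := (SecComp.nGeom_eq f (ω ≫ x)).2.trans (h _)
    haveI := card_cc_eq_one_iff.1 hc
    let π : pullback f (ω ≫ x) ⟶ pullback f x :=
      (pullbackLeftPullbackSndIso f x ω).inv ≫ pullback.fst (pullback.snd f x) ω
    haveI : Surjective π := inferInstanceAs (Surjective (_ ≫ _))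
    exact π.surjective.connectedSpace π.continuous

/-- Geometric irreducibility by counting. -/
theorem geometricallyIrreducible_iff_nGeom (f : X ⟶ Y) :
    GeometricallyIrreducible f ↔ ∀ y, MoreMor.nGeomIrredComp f y = 1 := by
  constructor
  · intro h y
    obtain ⟨L, _, _, pt, hpt⟩ := SecComp.exists_algClosed_point Y y
    have h1 : IrreducibleSpace ↥(pullback f pt) :=
      GeometricallyIrreducible.geometrically_irreducibleSpace _ _ _ (IsPullback.of_hasPullback f pt)
    rw [← hpt (closedPoint L), ← (SecComp.nGeom_eq f pt).1]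
    exact encard_ic_eq_one_iff.2 h1
  · intro h
    refine ⟨geometrically_iff_of_isClosedUnderIsomorphisms.mpr fun K _ x => ?_⟩
    let Ω := AlgebraicClosure K
    let ω : Spec (CommRingCat.of Ω) ⟶ Spec (CommRingCat.of K) :=
      Spec.map (CommRingCat.ofHom (algebraMap K Ω))
    haveI : Surjective ω :=
      ⟨fun t => ⟨(closedPoint Ω : PrimeSpectrum Ω), Subsingleton.elim (α := PrimeSpectrum K) _ _⟩⟩
    have hc := (SecComp.nGeom_eq f (ω ≫ x)).1.trans (h _)
    haveI := encard_ic_eq_one_iff.1 hc
    let π : pullback f (ω ≫ x) ⟶ pullback f x :=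
      (pullbackLeftPullbackSndIso f x ω).inv ≫ pullback.fst (pullback.snd f x) ω
    haveI : Surjective π := inferInstanceAs (Surjective (_ ≫ _))
    have := (IrreducibleSpace.isIrreducible_univ ↥(pullback f (ω ≫ x))).image _ π.continuous.continuousOn
    rw [Set.image_univ, π.surjective.range_eq] at this
    exact (irreducibleSpace_def _).2 this

/-- A non-empty fibre has at least one geometric connected component. -/
theorem one_le_nGeom (f : X ⟶ Y) {x : X} : 1 ≤ MoreMor.nGeomConnComp f (f x) := by
  obtain ⟨L, _, _, pt, hpt⟩ := SecComp.exists_algClosed_point Y (f x)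
  obtain ⟨p, -, -⟩ := Scheme.Pullback.exists_preimage_pullback x (closedPoint L : PrimeSpectrum L)
    (hpt _).symm
  rw [← hpt (closedPoint L), ← (SecComp.nGeom_eq f pt).2]
  haveI : Nonempty (_root_.ConnectedComponents ↥(pullback f pt)) := ⟨ConnectedComponents.mk p⟩
  exact Order.one_le_iff_pos.2 (ENat.one_le_card_iff_nonempty _ |>.2 inferInstance |> lt_of_lt_of_le zero_lt_one)

end Groth.Agent.ProperConn
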