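import Groth.Agent.S1460
import Groth.Agent.LimLib.FGSub
import Groth.Agent.LimTop.Basic

/-!
# Noetherian approximation preserving a constructible fibrewise property
-/

set_option autoImplicit false

universe u

open CategoryTheory CategoryTheory.Limits AlgebraicGeometry Topology TopologicalSpace Opposite

namespace Groth.Agent.ProperConn

/-- Along an affine limit, a locally constructible locus compatible with base change which contains
all points over the limit contains all points at some stage. -/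
theorem exists_stage_of_locus (L : ∀ {X Y : Scheme.{u}}, (X ⟶ Y) → Set Y)
    (hcons : ∀ {X Y : Scheme.{u}} (f : X ⟶ Y) [LocallyOfFinitePresentation f] [QuasiCompact f]
      [QuasiSeparated f], IsLocallyConstructible (L f))
    (hbc : ∀ {X Y X' Y' : Scheme.{u}} {f : X ⟶ Y} {f' : X' ⟶ Y'} {g' : X' ⟶ X} {g : Y' ⟶ Y}
      [LocallyOfFiniteType f] [QuasiCompact f],
      IsPullback g' f' f g → ∀ y', y' ∈ L f' ↔ g y' ∈ L f)
    {I : Type u} [SmallCategory I] [IsCofiltered I] {D : I ⥤ Scheme.{u}} {c : Cone D}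
    (hc : IsLimit c) [∀ i, IsAffine (D.obj i)] {X X₁ S₁ : Scheme.{u}} [IsAffine X₁] [IsAffine S₁]
    (f₁ : X₁ ⟶ S₁) [LocallyOfFinitePresentation f₁] (p : ∀ i, D.obj i ⟶ S₁)
    (hp : ∀ {i k : I} (ψ : i ⟶ k), D.map ψ ≫ p k = p i) {f : X ⟶ c.pt} {g' : X ⟶ X₁} {g : c.pt ⟶ S₁}
    (hg : ∀ i, c.π.app i ≫ p i = g) (h : IsPullback g' f f₁ g) (hf : ∀ s, s ∈ L f) :
    ∃ (j : I) (X₀ : Scheme.{u}) (f₀ : X₀ ⟶ D.obj j) (q : X ⟶ X₀), IsAffine X₀ ∧
      IsPullback q f f₀ (c.π.app j) ∧ LocallyOfFiniteType f₀ ∧ ∀ s, s ∈ L f₀ := by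
  classical
  have : ∀ (i j : I) (f : i ⟶ j), IsAffineHom (D.map f) := fun _ _ _ => inferInstance
  obtain ⟨i₀⟩ := IsCofiltered.nonempty (C := I)
  let fk : ∀ k, pullback f₁ (p k) ⟶ D.obj k := fun k => pullback.snd f₁ (p k)
  have hmap : ∀ {k l : I} (ψ : k ⟶ l), ∀ y, y ∈ L (fk k) ↔ D.map ψ y ∈ L (fk l) :=
    fun {k l} ψ => hbc (IsPullback.of_right
      (h₁₁ := pullback.lift (pullback.fst f₁ (p k)) (pullback.snd f₁ (p k) ≫ D.map ψ)
        (by rw [Category.assoc, hp, pullback.condition]))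
      (by rw [pullback.lift_fst, hp]; exact IsPullback.of_hasPullback f₁ (p k))
      (pullback.lift_snd _ _ _) (IsPullback.of_hasPullback f₁ (p l)))
  have hS : ∀ k, IsPullback (pullback.lift g' (f ≫ c.π.app k)
      (by rw [Category.assoc, hg, h.w])) f (fk k) (c.π.app k) := fun k =>
    IsPullback.of_right (by rw [pullback.lift_fst, hg]; exact h) (pullback.lift_snd _ _ _)
      (IsPullback.of_hasPullback f₁ (p k))
  obtain ⟨j, -, hj⟩ := LimTop.exists_subset hc (i₀ := i₀) (fun _ _ => Set.univ)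
    (fun k _ => L (fk k))
    (fun _ _ => LimTop.isProConstructible_of_isLocallyConstructible
      IsConstructible.univ.isLocallyConstructible)
    (fun k _ => LimTop.isIndConstructible_of_isLocallyConstructible (hcons (fk k)))
    (fun _ _ _ _ => Set.subset_univ _)
    (fun _ _ ψ _ y hy => (hmap ψ y).2 hy)
    (fun s _ => ⟨i₀, 𝟙 _, (hbc (hS i₀) s).1 (hf s)⟩)
  exact ⟨j, _, fk j, _, inferInstance, hS j,
    inferInstanceAs (LocallyOfFiniteType (pullback.snd _ _)), fun s₀ => hj (Set.mem_univ s₀)⟩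

/-- A morphism of finite presentation between affine schemes all of whose points lie in a locally
constructible locus compatible with base change has a model of finite type over `ℤ` with the same
property. -/
theorem exists_model_of_locus {X S : Scheme.{u}} (f : X ⟶ S) [IsAffine X] [IsAffine S]
    [LocallyOfFinitePresentation f] (L : ∀ {X Y : Scheme.{u}}, (X ⟶ Y) → Set Y)
    (hcons : ∀ {X Y : Scheme.{u}} (f : X ⟶ Y) [LocallyOfFinitePresentation f] [QuasiCompact f]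
      [QuasiSeparated f], IsLocallyConstructible (L f))
    (hbc : ∀ {X Y X' Y' : Scheme.{u}} {f : X ⟶ Y} {f' : X' ⟶ Y'} {g' : X' ⟶ X} {g : Y' ⟶ Y}
      [LocallyOfFiniteType f] [QuasiCompact f],
      IsPullback g' f' f g → ∀ y', y' ∈ L f' ↔ g y' ∈ L f)
    (hf : ∀ s, s ∈ L f) :
    ∃ (X₀ S₀ : Scheme.{u}) (f₀ : X₀ ⟶ S₀) (g : S ⟶ S₀) (g' : X ⟶ X₀), IsAffine X₀ ∧ IsAffine S₀ ∧
      IsPullback g' f f₀ g ∧ Algebra.FiniteType ℤ Γ(S₀, ⊤) ∧ LocallyOfFiniteType f₀ ∧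
      ∀ s₀, s₀ ∈ L f₀ := by
  classical
  obtain ⟨X₁, S₁, f₁, g, g', hX₁, hS₁, hpb, hZ, hft⟩ := S1460.result.{u} f
  letI : Algebra Γ(S₁, ⊤) Γ(S, ⊤) := g.appTop.hom.toAlgebra
  haveI : IsNoetherianRing Γ(S₁, ⊤) := Algebra.FiniteType.isNoetherianRing ℤ _
  haveI : IsLocallyNoetherian S₁ :=
    isLocallyNoetherian_of_isOpenImmersion S₁.isoSpec.hom
  haveI : LocallyOfFinitePresentation f₁ := LocallyOfFinitePresentation.iff_locallyOfFiniteType.2 hft
  have hg : ∀ k : (Finset Γ(S, ⊤))ᵒᵖ, (LimLib.fgCone Γ(S₁, ⊤) Γ(S, ⊤)).π.app k ≫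
      Spec.map (CommRingCat.ofHom (algebraMap Γ(S₁, ⊤)
        (Algebra.adjoin Γ(S₁, ⊤) (k.unop : Set Γ(S, ⊤))))) ≫ S₁.isoSpec.inv =
      S.isoSpec.inv ≫ g := fun k => by
    refine (Spec.map_comp_assoc _ ((LimLib.fgCocone _ _).ι.app k.unop) S₁.isoSpec.inv).symm.trans ?_
    refine (Iso.eq_inv_comp _).2 ?_
    exact (Scheme.isoSpec_hom_naturality_assoc g S₁.isoSpec.inv).trans
      (by rw [Iso.hom_inv_id, Category.comp_id])
  have hpb' : IsPullback g' (f ≫ S.isoSpec.hom) f₁ (S.isoSpec.inv ≫ g) :=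
    hpb.of_iso (Iso.refl _) (Iso.refl _) S.isoSpec (Iso.refl _) (by simp) (by simp) (by simp) (by simp)
  obtain ⟨j, X₀, f₀, q, hX₀, hq, hft₀, hL⟩ := exists_stage_of_locus L hcons hbc
    (LimLib.isLimitFgCone Γ(S₁, ⊤) Γ(S, ⊤)) f₁
    (fun k => Spec.map (CommRingCat.ofHom (algebraMap Γ(S₁, ⊤)
        (Algebra.adjoin Γ(S₁, ⊤) (k.unop : Set Γ(S, ⊤))))) ≫ S₁.isoSpec.inv)
    (fun {k l} ψ => by
      refine (Spec.map_comp_assoc _ ((LimLib.fgRings _ _).map ψ.unop) S₁.isoSpec.inv).symm.trans ?_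
      exact congrArg (fun w => Spec.map w ≫ S₁.isoSpec.inv) rfl)
    hg hpb' (fun t => by
      obtain ⟨s, rfl⟩ := S.isoSpec.hom.surjective t
      haveI : LocallyOfFiniteType (f ≫ S.isoSpec.hom) := inferInstance
      haveI : QuasiCompact (f ≫ S.isoSpec.hom) := inferInstance
      exact (hbc (IsPullback.of_horiz_isIso (CommSq.mk (Category.id_comp _) :
        CommSq (𝟙 X) f (f ≫ S.isoSpec.hom) S.isoSpec.hom)) s).1 (hf s))
  refine ⟨X₀, _, f₀, S.isoSpec.hom ≫ (LimLib.fgCone Γ(S₁, ⊤) Γ(S, ⊤)).π.app j, q, hX₀, inferInstance,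
    hq.of_iso (Iso.refl _) (Iso.refl _) S.isoSpec.symm (Iso.refl _) (by simp)
      (((Category.assoc _ _ _).trans ((congrArg (fun w => f ≫ w) S.isoSpec.hom_inv_id).trans
        (Category.comp_id f))).trans (Category.id_comp f).symm) (by simp)
      ((Category.comp_id _).trans (Iso.inv_hom_id_assoc S.isoSpec _).symm), ?_, hft₀, hL⟩
  haveI : Algebra.FiniteType Γ(S₁, ⊤) (Algebra.adjoin Γ(S₁, ⊤) (j.unop : Set Γ(S, ⊤))) :=
    (Subalgebra.fg_iff_finiteType _).1 ⟨j.unop, rfl⟩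
  have h2 : Algebra.FiniteType ℤ (Algebra.adjoin Γ(S₁, ⊤) (j.unop : Set Γ(S, ⊤))) :=
    Algebra.FiniteType.trans hZ this
  have h3 : Algebra.FiniteType ℤ
      (CommRingCat.of (Algebra.adjoin Γ(S₁, ⊤) (j.unop : Set Γ(S, ⊤)))) := h2
  exact Algebra.FiniteType.equiv h3
    (Scheme.ΓSpecIso (CommRingCat.of (Algebra.adjoin Γ(S₁, ⊤) (j.unop : Set Γ(S, ⊤))))).symm.commRingCatIsoToRingEquiv.toIntAlgEquiv

end Groth.Agent.ProperConn
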