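import Groth.Agent.ProperConn.Upper
import Groth.Agent.GRLocus.Open
import Groth.Agent.LimLib.Proper

/-!
# Proper flat morphisms: local constancy of the geometric number of connected components
-/

set_option autoImplicit false
set_option linter.style.haveILetI false

universe u

open CategoryTheory CategoryTheory.Limits AlgebraicGeometry Topology TopologicalSpace

namespace Groth.Agent.ProperConn

variable {X Y : Scheme.{u}}

/-- Geometric reducedness of a fibre, read off from the locus. -/
theorem geometricallyReduced_fibre_iff (f : X ⟶ Y) (y : Y) :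
    GeometricallyReduced (f.fiberToSpecResidueField y) ↔ ∀ x, f x = y → x ∈ GRLocus.locus f := by
  constructor
  · rintro h x rfl
    exact @SecComp.isGeomReducedAt_of_geometricallyReduced (Y.residueField (f x)) _ _
      (f.fiberToSpecResidueField (f x)) h (f.asFiber x)
  · intro h
    refine GRLocus.geometricallyReduced_of_forall _ fun v => ?_
    have hv : f (f.fiberι y v) = y := (f.range_fiberι y).le ⟨v, rfl⟩
    exact GRLocus.isGeomReducedAt_fiber_of f _ hv (h _ hv) v rfl

/-- For a proper flat morphism of finite presentation the points with geometrically reduced fibre form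
an open set. -/
theorem isOpen_geometricallyReduced_fibre (f : X ⟶ Y) [IsProper f] [Flat f]
    [LocallyOfFinitePresentation f] : IsOpen {y : Y | GeometricallyReduced (f.fiberToSpecResidueField y)} := by
  have e : {y : Y | GeometricallyReduced (f.fiberToSpecResidueField y)} = (f '' (GRLocus.locus f)ᶜ)ᶜ := by
    ext y
    rw [Set.mem_setOf_eq, geometricallyReduced_fibre_iff, Set.mem_compl_iff, Set.mem_image]
    constructor
    · rintro h ⟨x, hx, hxy⟩; exact hx (h x hxy)
    · intro h x hxy
      by_contra hx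
      exact h ⟨x, hx, hxy⟩
  rw [e]
  exact (f.isClosedMap _ (GRLocus.isOpen_locus f).isClosed_compl).isOpen_compl

/-- Local constancy over an affine limit of Noetherian affine schemes. -/
theorem eventually_eq_of_limit {I : Type u} [SmallCategory I] [IsCofiltered I]
    {D : I ⥤ Scheme.{u}} {c : Cone D} (hc : IsLimit c) [∀ i, IsAffine (D.obj i)]
    [∀ i, IsNoetherian (D.obj i)] [IsAffine c.pt] (f : X ⟶ c.pt) [IsProper f] [Flat f]
    [LocallyOfFinitePresentation f] (s : c.pt) (hs : ∀ x, f x = s → x ∈ GRLocus.locus f) :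
    {z | MoreMor.nGeomConnComp f z = MoreMor.nGeomConnComp f s} ∈ nhds s := by
  haveI := QuasiCompact.compactSpace_of_compactSpace f
  haveI := quasiSeparatedSpace_of_quasiSeparated f
  obtain ⟨i₀, X₀, u₀, g₀, a₀, b₀, c₀, s₀⟩ := LimLib.hasModel hc f
  haveI := a₀
  haveI := b₀
  haveI := c₀
  obtain ⟨i₁, φ₁, hfl⟩ := FlatDescends.descends_flat D c hc (fun i j a => inferInstance)
    (fun i => inferInstance) (fun i => inferInstance) i₀ X₀ u₀ inferInstance inferInstance a₀ X g₀ f s₀
    (show Flat f from inferInstance)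
  obtain ⟨i₂, φ₂, hpr⟩ := LimLib.descends_isProper D c hc (fun i j a => inferInstance)
    (fun i => inferInstance) (fun i => inferInstance) i₀ X₀ u₀ inferInstance inferInstance
    (show LocallyOfFiniteType u₀ from inferInstance) X g₀ f s₀ (show IsProper f from inferInstance)
  obtain ⟨m, a, b, hab⟩ := IsCofiltered.cospan φ₁ φ₂
  let u₁ := pullback.snd u₀ (D.map (a ≫ φ₁))
  haveI : Flat u₁ :=
    LimLib.property_of_factor (P := @Flat) (IsPullback.of_hasPullback _ _) (IsPullback.of_hasPullback _ _)
      (D.map a) (D.map_comp a φ₁).symm hfl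
  haveI : IsProper u₁ :=
    LimLib.property_of_factor (P := @IsProper) (IsPullback.of_hasPullback _ _) (IsPullback.of_hasPullback _ _)
      (D.map b) (by rw [← D.map_comp, hab]) hpr
  let g₁ : X ⟶ pullback u₀ (D.map (a ≫ φ₁)) := pullback.lift g₀ (f ≫ c.π.app m)
    (by rw [s₀.w, Category.assoc, c.w])
  have s₁ : IsPullback g₁ f u₁ (c.π.app m) :=
    IsPullback.of_right (by simpa only [g₁, pullback.lift_fst, c.w] using s₀) (pullback.lift_snd _ _ _)
      (IsPullback.of_hasPullback u₀ (D.map (a ≫ φ₁)))
  have hred : GeometricallyReduced (u₁.fiberToSpecResidueField (c.π.app m s)) := by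
    refine (geometricallyReduced_fibre_iff u₁ _).2 fun x₁ hx₁ => ?_
    obtain ⟨x, hx, hxs⟩ := Scheme.exists_preimage_of_isPullback s₁ x₁ s hx₁
    rw [← hx]
    exact SecComp.isGeomReducedAt_descend s₁ x (hs x hxs)
  have hev := eventually_eq u₁ (c.π.app m s) (fun x _ => isUnivOpenAt_of_flat u₁ x) hred
  refine Filter.mem_of_superset ((c.π.app m).continuous.continuousAt.preimage_mem_nhds hev) fun z hz => ?_
  exact (Wt.GenFib.nGeom_baseChange s₁ z).2.trans (hz.trans (Wt.GenFib.nGeom_baseChange s₁ s).2.symm)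

/-- For a proper flat morphism of finite presentation, the geometric number of connected components is
constant near a point with geometrically reduced fibre. -/
theorem eventually_eq_of_flat (f : X ⟶ Y) [IsProper f] [Flat f] [LocallyOfFinitePresentation f]
    (s : Y) (hs : GeometricallyReduced (f.fiberToSpecResidueField s)) :
    {z | MoreMor.nGeomConnComp f z = MoreMor.nGeomConnComp f s} ∈ nhds s := by
  obtain ⟨V, hV, hsV, -⟩ := exists_isAffineOpen_mem_and_subset (x := s) (U := ⊤) trivial
  obtain ⟨I, _, _, D, c, e, ⟨hc⟩, _, _⟩ := ConsPairLib.exists_noetherian_limit Γ(Y, V)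
  haveI : IsAffine c.pt := .of_isIso e.hom
  let i : c.pt ≅ (V : Scheme.{u}) := e ≪≫ hV.isoSpec.symm
  let f' : (↑(f ⁻¹ᵁ V) : Scheme.{u}) ⟶ c.pt := (f ∣_ V) ≫ i.inv
  have hpb : IsPullback (f ⁻¹ᵁ V).ι f' f (i.hom ≫ V.ι) :=
    (isPullback_morphismRestrict f V).flip.of_iso (Iso.refl _) (Iso.refl _) i.symm (Iso.refl _)
      (by simp) (by simp [f']) (by simp) (by simp)
  haveI : IsProper f' := MorphismProperty.of_isPullback hpb ‹IsProper f›
  haveI : Flat f' := MorphismProperty.of_isPullback hpb ‹Flat f›
  haveI : LocallyOfFinitePresentation f' :=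
    MorphismProperty.of_isPullback hpb ‹LocallyOfFinitePresentation f›
  let j := i.hom ≫ V.ι
  obtain ⟨t, ht⟩ : ∃ t : c.pt, j t = s := by
    obtain ⟨t, ht⟩ := i.hom.surjective (⟨s, hsV⟩ : ↥V)
    exact ⟨t, (Scheme.Hom.comp_apply _ _ _).trans (congrArg V.ι ht)⟩
  have hloc : ∀ x, f' x = t → x ∈ GRLocus.locus f' := by
    intro x hx
    refine (GRLocus.mem_locus_restrict_iff (j := (f ⁻¹ᵁ V).ι) (i := j) hpb.w.symm x).2
      ((geometricallyReduced_fibre_iff f s).1 hs _ ?_)
    rw [← Scheme.Hom.comp_apply, hpb.w, Scheme.Hom.comp_apply, hx]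
    exact ht
  have hev := eventually_eq_of_limit hc f' _ hloc
  have himg := j.isOpenEmbedding.isOpenMap.image_mem_nhds hev
  rw [ht] at himg
  refine Filter.mem_of_superset himg ?_
  rintro _ ⟨z, hz, rfl⟩
  show MoreMor.nGeomConnComp f (j z) = MoreMor.nGeomConnComp f s
  rw [← (Wt.GenFib.nGeom_baseChange hpb z).2, hz, (Wt.GenFib.nGeom_baseChange hpb _).2, ht]

end Groth.Agent.ProperConn
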