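import Groth.Agent.ProperConn.Flat
import Groth.Agent.S4649
import Groth.Agent.S4646
import Groth.Agent.S2530
import Groth.Agent.S1301
import Groth.Agent.S3410

/-!
# Geometrically pointwise integral fibres
-/

set_option autoImplicit false
set_option linter.style.haveILetI false

universe u

open CategoryTheory CategoryTheory.Limits AlgebraicGeometry Topology TopologicalSpace IsLocalRing

namespace Groth.Agent.ProperConn

variable {X Y : Scheme.{u}}

/-- All local rings of all base field extensions of the fibre are domains. -/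
def GPI (f : X ⟶ Y) (y : Y) : Prop :=
  ∀ x : ↥(f.fiber y), FBase.IsGeomPtIntegralAt (f.fiberToSpecResidueField y) x

lemma natCard_eq_iff {α β : Type*} [Finite α] [Finite β] :
    Nat.card α = Nat.card β ↔ ENat.card α = ENat.card β := by
  rw [ENat.card_eq_coe_natCard, ENat.card_eq_coe_natCard, Nat.cast_inj]

/-- Geometric pointwise integrality of a fibre in terms of the two counts. -/
theorem gpi_iff (f : X ⟶ Y) [LocallyOfFiniteType f] [QuasiCompact f] (y : Y) :
    GPI f y ↔ GeometricallyReduced (f.fiberToSpecResidueField y) ∧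
      MoreMor.nGeomIrredComp f y = MoreMor.nGeomConnComp f y := by
  let fy := f.fiberToSpecResidueField y
  let k : Type u := Y.residueField y
  let Ω := AlgebraicClosure k
  let pt : Spec (CommRingCat.of Ω) ⟶ Spec (Y.residueField y) :=
    Spec.map (CommRingCat.ofHom (algebraMap k Ω))
  have hlft : LocallyOfFiniteType fy := inferInstanceAs (LocallyOfFiniteType (pullback.snd f _))
  have hqc : QuasiCompact fy := inferInstanceAs (QuasiCompact (pullback.snd f _))
  let B := pullback fy pt
  haveI : IsLocallyNoetherian B := LocallyOfFiniteType.isLocallyNoetherian (pullback.snd fy pt)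
  haveI : CompactSpace ↥B := QuasiCompact.compactSpace_of_compactSpace (pullback.snd fy pt)
  haveI : IsNoetherian B := {}
  haveI : Finite ↥(irreducibleComponents ↥B) := NoetherianSpace.finite_irreducibleComponents.to_subtype
  haveI := finite_connectedComponents_of_noetherian (T := ↥B)
  have hb := Wt.GenFib.nGeom_baseChange
    (IsPullback.of_hasPullback f (Y.fromSpecResidueField y) : IsPullback (f.fiberι y) fy f _)
    (pt (closedPoint Ω))
  rw [Scheme.fromSpecResidueField_apply] at hb
  have h1 : ENat.card ↥(irreducibleComponents ↥B) = MoreMor.nGeomIrredComp f y :=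
    (ENat.card_coe_set_eq _).trans ((SecComp.nGeom_eq fy pt).1.trans hb.1)
  have h2 : ENat.card (_root_.ConnectedComponents ↥B) = MoreMor.nGeomConnComp f y :=
    (SecComp.nGeom_eq fy pt).2.trans hb.2
  have h3 := @S4649.result k Ω _ _ _ _ (f.fiber y) fy hlft hqc
  rw [← h1, ← h2, ← natCard_eq_iff]
  exact h3

theorem geometricallyReduced_fibre_baseChange_iff {X' Y' : Scheme.{u}} {f : X ⟶ Y} {f' : X' ⟶ Y'}
    {g' : X' ⟶ X} {g : Y' ⟶ Y} (hc : IsPullback g' f' f g) (y' : Y') :
    GeometricallyReduced (f'.fiberToSpecResidueField y') ↔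
      GeometricallyReduced (f.fiberToSpecResidueField (g y')) := by
  rw [geometricallyReduced_fibre_iff, geometricallyReduced_fibre_iff]
  constructor
  · intro h x hx
    obtain ⟨x', hx', hx's⟩ := Scheme.exists_preimage_of_isPullback hc x y' hx
    rw [← hx']
    exact SecComp.isGeomReducedAt_descend hc x' (h x' hx's)
  · intro h x' hx'
    exact SecDim.isGeomReducedAt_baseChange hc x'
      (h _ (by rw [← Scheme.Hom.comp_apply, hc.w, Scheme.Hom.comp_apply, hx']))

theorem gpi_baseChange {X' Y' : Scheme.{u}} {f : X ⟶ Y} {f' : X' ⟶ Y'}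
    {g' : X' ⟶ X} {g : Y' ⟶ Y} (hc : IsPullback g' f' f g) [LocallyOfFiniteType f] [QuasiCompact f]
    (y' : Y') : GPI f' y' ↔ GPI f (g y') := by
  haveI : LocallyOfFiniteType f' := MorphismProperty.of_isPullback hc ‹LocallyOfFiniteType f›
  haveI : QuasiCompact f' := MorphismProperty.of_isPullback hc ‹QuasiCompact f›
  rw [gpi_iff, gpi_iff, geometricallyReduced_fibre_baseChange_iff hc,
    (Wt.GenFib.nGeom_baseChange hc y').1, (Wt.GenFib.nGeom_baseChange hc y').2]

/-- The locus of geometrically pointwise integral fibres is locally constructible. -/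
theorem isLocallyConstructible_gpi (f : X ⟶ Y) [LocallyOfFinitePresentation f] [QuasiCompact f]
    [QuasiSeparated f] : IsLocallyConstructible {y : Y | GPI f y} := by
  have e : {y : Y | GPI f y} = {y : Y | GeometricallyReduced (f.fiberToSpecResidueField y)} ∩
      {y : Y | (MoreMor.nGeomIrredComp f y = MoreMor.nGeomConnComp f y) = True} := by
    ext y
    simp [gpi_iff]
  rw [e]
  exact (S1301.result f).inter (Wt.GenFib.isLocallyConstructible_level
    (fun {_ _} g y => MoreMor.nGeomIrredComp g y = MoreMor.nGeomConnComp g y)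
    (fun hc y' => by rw [(Wt.GenFib.nGeom_baseChange hc y').1, (Wt.GenFib.nGeom_baseChange hc y').2])
    (fun u _ _ _ _ => let ⟨V, hη, hV⟩ := Wt.GenFib.exists_opens_nGeom u
      ⟨V, hη, fun s hs => by rw [(hV s hs).1, (hV s hs).2]⟩) f True)

/-- The geometric number of irreducible components is attained over some finite extension. -/
theorem exists_finite_irred_le {k : Type u} [Field k] {X : Scheme.{u}}
    (f : X ⟶ Spec (CommRingCat.of k)) [LocallyOfFiniteType f] [QuasiCompact f] :
    ∃ (L : Type u) (_ : Field L) (_ : Algebra k L), FiniteDimensional k L ∧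
      MoreMor.nGeomIrredComp f (closedPoint k) ≤ (irreducibleComponents
        ↥(pullback f (Spec.map (CommRingCat.ofHom (algebraMap k L))))).encard := by
  letI : X.Over (Spec (CommRingCat.of k)) := ⟨f⟩
  haveI : IsLocallyNoetherian X := LocallyOfFiniteType.isLocallyNoetherian f
  haveI : CompactSpace ↥X := QuasiCompact.compactSpace_of_compactSpace f
  haveI : IsNoetherian X := {}
  haveI : Finite ↥(irreducibleComponents ↥X) := NoetherianSpace.finite_irreducibleComponents.to_subtype
  have hfd : ∀ x : X, FBase.ResidueFieldProp f x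
      (fun K _ _ ↦ FiniteDimensional k (separableClosure k K)) := fun x ↦ by
    refine ⟨Curv2.resMap k X x, (VarBC.fromSpecResidueField_comp (k := k) X x).symm, ?_⟩
    have h := GeomPts.essFiniteType_residueField f x
    have e : Spec.preimage (X.fromSpecResidueField x ≫ f) = CommRingCat.ofHom (Curv2.resMap k X x) :=
      Spec.map_injective (by rw [Spec.map_preimage]; exact VarBC.fromSpecResidueField_comp (k := k) X x)
    rw [e] at h
    letI := (Curv2.resMap k X x).toAlgebra
    have : Algebra.EssFiniteType k (X.residueField x) := h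
    exact VarBC.finiteDimensional_separableClosure
  obtain ⟨L, _, _, hfin, -, hL⟩ := S4646.result f fun Z hZ => hfd hZ.1.genericPoint
  refine ⟨L, inferInstance, inferInstance, hfin, ?_⟩
  let sL := Spec.map (CommRingCat.ofHom (algebraMap k L))
  let K := AlgebraicClosure L
  let sK : Spec (CommRingCat.of K) ⟶ Spec (CommRingCat.of L) :=
    Spec.map (CommRingCat.ofHom (algebraMap L K))
  let f' := pullback.snd f sL
  have hn : MoreMor.nGeomIrredComp f (closedPoint k) =
      (irreducibleComponents ↥(pullback f' sK)).encard := by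
    rw [(SecComp.nGeom_eq f' sK).1]
    refine Eq.trans ?_ (Wt.GenFib.nGeom_baseChange (IsPullback.of_hasPullback f sL) _).1.symm
    congr 1
    exact Subsingleton.elim (α := PrimeSpectrum k) _ _
  rw [hn]
  let p := pullback.fst f' sK
  refine le_trans (Set.encard_le_encard
    (t := (fun Z => p ⁻¹' Z) '' irreducibleComponents ↥(pullback f sL)) fun W hW => ?_)
    (Set.encard_image_le _ _)
  obtain ⟨ξ, hξ⟩ := QuasiSober.sober hW.1 (isClosed_of_mem_irreducibleComponents W hW)
  refine ⟨irreducibleComponent (p ξ), irreducibleComponent_mem_irreducibleComponents _, ?_⟩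
  have hle : W ⊆ p ⁻¹' irreducibleComponent (p ξ) := by
    rw [← hξ.def]
    exact closure_minimal (Set.singleton_subset_iff.mpr mem_irreducibleComponent)
      (isClosed_irreducibleComponent.preimage p.continuous)
  exact (hle.antisymm (hW.2 (hL K _ (irreducibleComponent_mem_irreducibleComponents _)) hle)).symm

/-- Geometric pointwise integrality of the fibres of a proper flat morphism is stable under
generization, over a locally Noetherian base. -/
theorem gpi_of_specializes [IsLocallyNoetherian Y] (f : X ⟶ Y) [IsProper f] [Flat f] {y' y : Y}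
    (hyy : y' ⤳ y) (h : GPI f y) : GPI f y' := by
  rcases eq_or_ne y' y with rfl | hne
  · exact h
  haveI : LocallyOfFinitePresentation f := inferInstance
  rw [gpi_iff]
  refine ⟨hyy.mem_open (isOpen_geometricallyReduced_fibre f) ((gpi_iff f y).1 h).1, ?_⟩
  obtain ⟨R, _, _, _, u, hu, hu'⟩ := RatMapExt.exists_dvr_of_specializes hyy hne
  let K₀ := FractionRing R
  let pt₀ : Spec (CommRingCat.of K₀) ⟶ Y := Spec.map (CommRingCat.ofHom (algebraMap R K₀)) ≫ u
  obtain ⟨L, _, _, _, hLe⟩ := exists_finite_irred_le (pullback.snd f pt₀)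
  replace hLe := ((congrArg (MoreMor.nGeomIrredComp f) (hu' _)).symm.trans
    (Wt.GenFib.nGeom_baseChange (IsPullback.of_hasPullback f pt₀) (closedPoint K₀)).1.symm).trans_le hLe
  letI : Algebra R L := ((algebraMap K₀ L).comp (algebraMap R K₀)).toAlgebra
  haveI : IsScalarTower R K₀ L := IsScalarTower.of_algebraMap_eq' rfl
  obtain ⟨R', hR', hRR', hmR'⟩ := DVRDom.exists_dvr_dominating R (IsDiscreteValuationRing.not_isField R)
    K₀ L (IntermediateField.fg_top_iff.mpr inferInstance)
  haveI := hR'
  let φ : R →+* R' := (algebraMap R L).codRestrict R'.toSubring hRR'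
  let u' : Spec (CommRingCat.of R') ⟶ Y := Spec.map (CommRingCat.ofHom φ) ≫ u
  have hu'c : u' (closedPoint R') = y := by
    refine (congrArg u ?_).trans hu
    refine PrimeSpectrum.ext ?_
    show (maximalIdeal R').comap φ = maximalIdeal R
    refine ((maximalIdeal.isMaximal R).eq_of_le (Ideal.IsPrime.comap φ).ne_top fun a ha => ?_).symm
    rw [Ideal.mem_comap, R'.valuation_lt_one_iff]
    exact hmR' a ha
  let gen : Spec (CommRingCat.of L) ⟶ Spec (CommRingCat.of R') :=
    Spec.map (CommRingCat.ofHom (algebraMap R' L))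
  haveI : IsPreimmersion gen := IsPreimmersion.of_isLocalization (nonZeroDivisors R')
  haveI : Flat gen := (HasRingHomProperty.Spec_iff (P := @Flat)).mpr
    (RingHom.flat_algebraMap_iff.mpr (IsLocalization.flat L (nonZeroDivisors R')))
  let q := pullback.snd f u'
  haveI : IsProper q := inferInstanceAs (IsProper (pullback.snd f u'))
  haveI : Flat q := inferInstanceAs (Flat (pullback.snd f u'))
  haveI : IsLocallyNoetherian (pullback f u') := LocallyOfFiniteType.isLocallyNoetherian q
  have hdom : ∀ z : ↥(pullback f u'), IsDomain ((pullback f u').presheaf.stalk z) := by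
    intro z
    obtain ⟨w, hzw, hqw⟩ : closedPoint R' ∈ q '' closure {z} :=
      (specializes_closedPoint (q z)).mem_closed (q.isClosedMap _ isClosed_closure)
        ⟨z, subset_closure rfl, rfl⟩
    refine (specializes_iff_mem_closure.mpr hzw).mem_open (S2530.isOpen_setOf_isDomain_stalk _) ?_
    refine S3410.isDomain_stalk_dvr q w hqw (Flat.stalkMap q w)
      (S3410.isDomain_fibre_bc (IsPullback.of_hasPullback f u') w ?_)
    have hfw : f (pullback.fst f u' w) = y := by
      rw [← Scheme.Hom.comp_apply, pullback.condition, Scheme.Hom.comp_apply]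
      exact (congrArg u' hqw).trans hu'c
    generalize pullback.fst f u' w = x at hfw
    subst hfw
    exact h (f.asFiber x)
  let G := pullback q gen
  let j : G ⟶ pullback f u' := pullback.fst q gen
  have hG : ∀ z : ↥G, IsDomain (G.presheaf.stalk z) := fun z =>
    (RingEquiv.ofBijective _ (GRLocus.stalkMap_bijective_of_flat j z)).toMulEquiv.isDomain_iff.mp (hdom _)
  haveI : IsLocallyNoetherian G := LocallyOfFiniteType.isLocallyNoetherian (pullback.snd q gen)
  haveI : CompactSpace ↥G := QuasiCompact.compactSpace_of_compactSpace (pullback.snd q gen)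
  haveI : IsNoetherian G := {}
  haveI : Finite ↥(irreducibleComponents ↥G) := NoetherianSpace.finite_irreducibleComponents.to_subtype
  haveI := finite_connectedComponents_of_noetherian (T := ↥G)
  have hIC : (irreducibleComponents ↥G).encard = ENat.card (_root_.ConnectedComponents ↥G) :=
    (ENat.card_coe_set_eq _).symm.trans (natCard_eq_iff.1 ((S4649.forall_isDomain_stalk_iff G).1 hG).2)
  have e : Spec.map (CommRingCat.ofHom (algebraMap K₀ L)) ≫ pt₀ = gen ≫ u' := by
    simp only [pt₀, gen, u', ← Category.assoc, ← Spec.map_comp]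
    rfl
  have hup : MoreMor.nGeomIrredComp f y' ≤ MoreMor.nGeomConnComp f y' := by
    refine hLe.trans (le_trans ?_ (le_trans hIC.le ?_))
    · rw [Wt.GenFib.encard_irreducibleComponents_of_homeomorph (Scheme.homeoOfIso
        ((pullbackLeftPullbackSndIso f pt₀ _) ≪≫ pullback.congrHom rfl e ≪≫
          (pullbackLeftPullbackSndIso f u' gen).symm))]
    · let Ω := AlgebraicClosure L
      let ω : Spec (CommRingCat.of Ω) ⟶ Spec (CommRingCat.of L) :=
        Spec.map (CommRingCat.ofHom (algebraMap L Ω))
      haveI : Surjective ω :=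
        ⟨fun t => ⟨(closedPoint Ω : PrimeSpectrum Ω), Subsingleton.elim (α := PrimeSpectrum L) _ _⟩⟩
      have hn : ENat.card (_root_.ConnectedComponents ↥(pullback (pullback.snd q gen) ω)) =
          MoreMor.nGeomConnComp f y' := by
        rw [(SecComp.nGeom_eq (pullback.snd q gen) ω).2, (Wt.GenFib.nGeom_baseChange
          ((IsPullback.of_hasPullback q gen).paste_horiz (IsPullback.of_hasPullback f u')) _).2]
        congr 1
        rw [← e]
        exact hu' _
      rw [← hn]
      refine card_le_of_surjective
        (f := (pullback.fst (pullback.snd q gen) ω).continuous.connectedComponentsMap) fun c => ?_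
      obtain ⟨a, rfl⟩ := ConnectedComponents.surjective_coe c
      obtain ⟨b, rfl⟩ := (pullback.fst (pullback.snd q gen) ω).surjective a
      exact ⟨_, Continuous.connectedComponentsMap_mk _ b⟩
  refine le_antisymm hup ?_
  let Ω' := AlgebraicClosure (Y.residueField y')
  let pt : Spec (CommRingCat.of Ω') ⟶ Y :=
    Spec.map (CommRingCat.ofHom (algebraMap (Y.residueField y') Ω')) ≫ Y.fromSpecResidueField y'
  have hpt : pt (closedPoint Ω') = y' :=
    (Scheme.Hom.comp_apply _ _ _).trans (Scheme.fromSpecResidueField_apply _ _)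
  obtain ⟨h1, h2⟩ := SecComp.nGeom_eq f pt
  rw [hpt] at h1 h2
  rw [← h1, ← h2, ← ENat.card_coe_set_eq]
  refine card_le_of_surjective
    (f := fun Z : ↥(irreducibleComponents ↥(pullback f pt)) => ConnectedComponents.mk Z.2.1.nonempty.some)
    fun c => ?_
  obtain ⟨a, rfl⟩ := ConnectedComponents.surjective_coe c
  refine ⟨⟨_, irreducibleComponent_mem_irreducibleComponents a⟩, ConnectedComponents.coe_eq_coe'.2 ?_⟩
  exact (isIrreducible_irreducibleComponent (x := a)).isConnected.isPreconnected.subset_connectedComponent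
    mem_irreducibleComponent (Set.Nonempty.some_mem _)

/-- Near any point of the target a proper flat morphism of finite presentation comes from a proper flat
morphism with Noetherian base. -/
theorem exists_proper_flat_model (f : X ⟶ Y) [IsProper f] [Flat f] [LocallyOfFinitePresentation f]
    (s : Y) : ∃ (T : Scheme.{u}) (j : T ⟶ Y) (_ : IsOpenImmersion j) (_ : s ∈ Set.range j)
      (f' : pullback f j ⟶ T) (_ : f' = pullback.snd f j) (S₁ X₁ : Scheme.{u}) (u₁ : X₁ ⟶ S₁)
      (g : T ⟶ S₁) (g₁ : pullback f j ⟶ X₁),
      IsNoetherian S₁ ∧ IsProper u₁ ∧ Flat u₁ ∧ IsPullback g₁ f' u₁ g := by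
  obtain ⟨V, hV, hsV, -⟩ := exists_isAffineOpen_mem_and_subset (x := s) (U := ⊤) trivial
  obtain ⟨I, _, _, D, c, e, ⟨hc⟩, _, _⟩ := ConsPairLib.exists_noetherian_limit Γ(Y, V)
  haveI : IsAffine c.pt := .of_isIso e.hom
  let i : c.pt ≅ (V : Scheme.{u}) := e ≪≫ hV.isoSpec.symm
  let j : c.pt ⟶ Y := i.hom ≫ V.ι
  have hsj : s ∈ Set.range j := by
    obtain ⟨t, ht⟩ := i.hom.surjective (⟨s, hsV⟩ : ↥V)
    exact ⟨t, (Scheme.Hom.comp_apply _ _ _).trans (congrArg V.ι ht)⟩
  let f' := pullback.snd f j
  haveI : IsProper f' := inferInstanceAs (IsProper (pullback.snd f j))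
  haveI : Flat f' := inferInstanceAs (Flat (pullback.snd f j))
  haveI : LocallyOfFinitePresentation f' := inferInstanceAs (LocallyOfFinitePresentation (pullback.snd f j))
  haveI := QuasiCompact.compactSpace_of_compactSpace f'
  haveI := quasiSeparatedSpace_of_quasiSeparated f'
  obtain ⟨i₀, X₀, u₀, g₀, a₀, b₀, c₀, s₀⟩ := LimLib.hasModel hc f'
  haveI := a₀
  haveI := b₀
  haveI := c₀
  obtain ⟨i₁, φ₁, hfl⟩ := FlatDescends.descends_flat D c hc (fun i j a => inferInstance)
    (fun i => inferInstance) (fun i => inferInstance) i₀ X₀ u₀ inferInstance inferInstance a₀ _ g₀ f' s₀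
    (show Flat f' from inferInstance)
  obtain ⟨i₂, φ₂, hpr⟩ := LimLib.descends_isProper D c hc (fun i j a => inferInstance)
    (fun i => inferInstance) (fun i => inferInstance) i₀ X₀ u₀ inferInstance inferInstance
    (show LocallyOfFiniteType u₀ from inferInstance) _ g₀ f' s₀ (show IsProper f' from inferInstance)
  obtain ⟨m, a, b, hab⟩ := IsCofiltered.cospan φ₁ φ₂
  refine ⟨c.pt, j, inferInstance, hsj, f', rfl, D.obj m, pullback u₀ (D.map (a ≫ φ₁)),
    pullback.snd u₀ (D.map (a ≫ φ₁)), c.π.app m,
    pullback.lift g₀ (f' ≫ c.π.app m) (by rw [s₀.w, Category.assoc, c.w]), inferInstance, ?_, ?_, ?_⟩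
  · exact LimLib.property_of_factor (P := @IsProper) (IsPullback.of_hasPullback _ _)
      (IsPullback.of_hasPullback _ _) (D.map b) (by rw [← D.map_comp, hab]) hpr
  · exact LimLib.property_of_factor (P := @Flat) (IsPullback.of_hasPullback _ _)
      (IsPullback.of_hasPullback _ _) (D.map a) (D.map_comp a φ₁).symm hfl
  · exact IsPullback.of_right (by simpa only [pullback.lift_fst, c.w] using s₀) (pullback.lift_snd _ _ _)
      (IsPullback.of_hasPullback u₀ (D.map (a ≫ φ₁)))

/-- The geometrically pointwise integral fibres of a proper flat morphism of finite presentation form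
an open set. -/
theorem isOpen_gpi (f : X ⟶ Y) [IsProper f] [Flat f] [LocallyOfFinitePresentation f] :
    IsOpen {y : Y | GPI f y} := by
  refine isOpen_iff_mem_nhds.mpr fun s hs => ?_
  obtain ⟨T, j, _, ⟨t, ht⟩, f', rfl, S₁, X₁, u₁, g, g₁, _, _, _, hc⟩ := exists_proper_flat_model f s
  haveI : LocallyOfFinitePresentation u₁ := inferInstance
  have hb := IsPullback.of_hasPullback f j
  have h1 : GPI u₁ (g t) := (gpi_baseChange hc t).1 ((gpi_baseChange hb t).2 (ht ▸ hs))
  have hev : {z | GPI u₁ z} ∈ nhds (g t) :=
    SecDim.mem_nhds_of_generizations (isLocallyConstructible_gpi u₁) fun z hz => gpi_of_specializes u₁ hz h1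
  have himg := j.isOpenEmbedding.isOpenMap.image_mem_nhds (g.continuous.continuousAt.preimage_mem_nhds hev)
  rw [ht] at himg
  refine Filter.mem_of_superset himg ?_
  rintro _ ⟨z, hz, rfl⟩
  exact (gpi_baseChange hb z).1 ((gpi_baseChange hc z).2 hz)

/-- Geometric integrality of a fibre in terms of the two counts. -/
theorem geometricallyIntegral_fibre_iff (f : X ⟶ Y) [LocallyOfFiniteType f] [QuasiCompact f] (y : Y) :
    GeometricallyIntegral (f.fiberToSpecResidueField y) ↔ GPI f y ∧ MoreMor.nGeomConnComp f y = 1 := by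
  let fy := f.fiberToSpecResidueField y
  have hb : ∀ t, MoreMor.nGeomIrredComp fy t = MoreMor.nGeomIrredComp f y ∧
      MoreMor.nGeomConnComp fy t = MoreMor.nGeomConnComp f y := fun t => by
    have := Wt.GenFib.nGeom_baseChange
      (IsPullback.of_hasPullback f (Y.fromSpecResidueField y) : IsPullback (f.fiberι y) fy f _) t
    rwa [Scheme.fromSpecResidueField_apply] at this
  have hone : ∀ {T : Type u} [TopologicalSpace T] [IrreducibleSpace T],
      (irreducibleComponents T).encard = 1 ∧ ENat.card (_root_.ConnectedComponents T) = 1 := by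
    intro T _ _
    refine ⟨?_, ?_⟩
    · rw [irreducibleComponents_eq_singleton, Set.encard_singleton]
    · haveI : ConnectedSpace T := inferInstance
      exact ENat.card_eq_one_iff_unique.mpr ⟨@Unique.mk' _ ⟨ConnectedComponents.mk (Classical.arbitrary T)⟩ inferInstance⟩
  constructor
  · intro h
    let Ω := AlgebraicClosure (Y.residueField y)
    let pt : Spec (CommRingCat.of Ω) ⟶ Spec (Y.residueField y) :=
      Spec.map (CommRingCat.ofHom (algebraMap (Y.residueField y) Ω))
    haveI : IsIntegral (pullback fy pt) :=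
      h.geometrically_isIntegral _ _ _ (IsPullback.of_hasPullback fy pt)
    obtain ⟨e1, e2⟩ := SecComp.nGeom_eq fy pt
    obtain ⟨o1, o2⟩ := hone (T := ↥(pullback fy pt))
    rw [o1, (hb _).1] at e1
    rw [o2, (hb _).2] at e2
    exact ⟨(gpi_iff f y).2 ⟨inferInstance, e1.symm.trans e2⟩, e2.symm⟩
  · rintro ⟨h, hn⟩
    obtain ⟨hred, heq⟩ := (gpi_iff f y).1 h
    haveI := hred
    haveI : GeometricallyIrreducible fy := by
      refine ⟨geometrically_iff_of_commRing_of_isClosedUnderIsomorphisms.mpr fun K _ a => ?_⟩
      letI : Algebra (Y.residueField y) K := a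
      let sK : Spec (CommRingCat.of K) ⟶ Spec (Y.residueField y) :=
        Spec.map (CommRingCat.ofHom (algebraMap (Y.residueField y) K))
      let Ω := AlgebraicClosure K
      let ω : Spec (CommRingCat.of Ω) ⟶ Spec (CommRingCat.of K) :=
        Spec.map (CommRingCat.ofHom (algebraMap K Ω))
      haveI : Surjective ω :=
        ⟨fun t => ⟨(closedPoint Ω : PrimeSpectrum Ω), Subsingleton.elim (α := PrimeSpectrum K) _ _⟩⟩
      let q := pullback.snd fy sK
      have e1 := (SecComp.nGeom_eq q ω).1
      rw [(Wt.GenFib.nGeom_baseChange (IsPullback.of_hasPullback fy sK) _).1, (hb _).1, heq, hn,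
        Set.encard_eq_one] at e1
      obtain ⟨Z, hZ⟩ := e1
      haveI : IrreducibleSpace ↥(pullback q ω) := by
        have huniv : Z = Set.univ := Set.eq_univ_of_forall fun a => by
          have := irreducibleComponent_mem_irreducibleComponents a
          rw [hZ, Set.mem_singleton_iff] at this
          exact this ▸ mem_irreducibleComponent
        have hZi : IsIrreducible Z := (hZ.ge (Set.mem_singleton Z)).1
        exact (irreducibleSpace_def _).2 ((congrArg IsIrreducible (huniv.trans Set.top_eq_univ.symm)).mp hZi)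
      have := (IrreducibleSpace.isIrreducible_univ ↥(pullback q ω)).image _
        (pullback.fst q ω).continuous.continuousOn
      rw [Set.image_univ, (pullback.fst q ω).surjective.range_eq] at this
      exact (irreducibleSpace_def _).2 this
    exact GeometricallyIntegral.of_geometricallyReduced_of_geometricallyIrreducible _

end Groth.Agent.ProperConn
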