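import Groth.Agent.ProperConn.Integral
import Groth.Agent.S3410

/-!
# Upper semicontinuity of the geometric number of irreducible components, reduced special fibre
-/

set_option autoImplicit false
set_option linter.style.haveILetI false

universe u

open CategoryTheory CategoryTheory.Limits AlgebraicGeometry Topology TopologicalSpace IsLocalRing

namespace Groth.Agent.ProperConn

/-- If `A/(c)` is reduced and a minimal prime together with `c` generates an ideal of definition,
then `(c)` is an ideal of definition. -/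
theorem eq_maximalIdeal_of_reduced {A : Type u} [CommRing A] [IsLocalRing A] [IsNoetherianRing A]
    {c : A} (hc : IsSMulRegular A c) (hcm : c ∈ maximalIdeal A)
    (hred : (Ideal.span {c}).IsRadical) {P : Ideal A} (hP : P ∈ minimalPrimes A)
    (h : ∀ Q : Ideal A, Q.IsPrime → P ≤ Q → c ∈ Q → Q = maximalIdeal A) :
    ∀ Q : Ideal A, Q.IsPrime → c ∈ Q → Q = maximalIdeal A := by
  have hPa : P ∈ associatedPrimes A A := by
    refine Module.associatedPrimes.minimalPrimes_annihilator_subset_associatedPrimes A A ?_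
    rwa [Module.annihilator_eq_bot.mpr inferInstance]
  obtain ⟨-, a, ha⟩ := (isAssociatedPrime_iff_exists_injective_linearMap (R := A) (M := A) (I := P)).1 hPa
  have hne : Ideal.span {c} ≠ ⊤ := fun h' => (Ideal.span_singleton_le_iff_mem _).2 hcm |>.trans_lt
    ((maximalIdeal.isMaximal A).ne_top.lt_top) |>.ne h'
  have hdec : ∀ a : A, a ≠ 0 → ∃ (n : ℕ) (u : A), u ∉ Ideal.span {c} ∧ a = c ^ n * u := by
    intro a ha
    obtain ⟨n, hn⟩ : ∃ n, a ∉ Ideal.span {c ^ n} := by
      by_contra hall
      push Not at hall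
      refine ha ?_
      have : a ∈ ⨅ n : ℕ, Ideal.span {c} ^ n :=
        Ideal.mem_iInf.mpr fun n => by rw [Ideal.span_singleton_pow]; exact hall n
      rwa [Ideal.iInf_pow_eq_bot_of_isLocalRing _ hne, Ideal.mem_bot] at this
    induction n with
    | zero => exact absurd (by simp) hn
    | succ n ih =>
      by_cases h : a ∈ Ideal.span {c ^ n}
      · obtain ⟨u, rfl⟩ := Ideal.mem_span_singleton'.mp h
        refine ⟨n, u, fun hu => hn ?_, mul_comm _ _⟩
        obtain ⟨v, rfl⟩ := Ideal.mem_span_singleton'.mp hu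
        exact Ideal.mem_span_singleton'.mpr ⟨v, by ring⟩
      · exact ih h
  have h1 : a (Ideal.Quotient.mk P 1) ≠ 0 := fun h0 => hP.1.1.ne_top
    ((Ideal.eq_top_iff_one P).2 (Ideal.Quotient.eq_zero_iff_mem.1 (ha (h0.trans (map_zero a).symm))))
  have hann : ∀ x ∈ P, x * a (Ideal.Quotient.mk P 1) = 0 := fun x hx => by
    rw [← smul_eq_mul, ← map_smul, Algebra.smul_def, Ideal.Quotient.algebraMap_eq,
      Ideal.Quotient.eq_zero_iff_mem.2 hx, zero_mul, map_zero]
  obtain ⟨n, b, hb, hab⟩ := hdec _ h1
  have hPb : ∀ x ∈ P, x * b = 0 := fun x hx => (hc.pow n) (by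
    show c ^ n • (x * b) = c ^ n • (0 : A)
    rw [smul_eq_mul, smul_zero, mul_left_comm, ← hab]
    exact hann x hx)
  have hm : ∀ x ∈ maximalIdeal A, x * b ∈ Ideal.span {c} := by
    intro x hx
    obtain ⟨N, hN⟩ : x ∈ (P ⊔ Ideal.span {c}).radical := by
      rw [Ideal.radical_eq_sInf, Ideal.mem_sInf]
      rintro J ⟨hJ, hJp⟩
      rw [h J hJp (le_sup_left.trans hJ) (hJ (Ideal.mem_sup_right (Ideal.mem_span_singleton_self c)))]
      exact hx
    obtain ⟨p, hp, s, hs, hps⟩ := Submodule.mem_sup.1 hN
    refine hred ⟨N + 1, ?_⟩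
    have e : (x * b) ^ (N + 1) = (p * b + s * b) * (x * b ^ N) := by
      rw [← add_mul, hps]; ring
    rw [e, hPb p hp, zero_add]
    exact Ideal.mul_mem_right _ _ (Ideal.mul_mem_right _ _ hs)
  obtain ⟨p, hp, hbp⟩ : ∃ p ∈ {J : Ideal A | Ideal.span {c} ≤ J ∧ J.IsPrime}, b ∉ p := by
    by_contra hcon
    push Not at hcon
    apply hb
    rw [← hred.radical, Ideal.radical_eq_sInf]
    exact Ideal.mem_sInf.2 fun {J} hJ => hcon J hJ
  obtain ⟨p₀, hp₀, hle⟩ := @Ideal.exists_minimalPrimes_le _ _ _ p hp.2 hp.1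
  haveI := hp₀.1.1
  have hp₀m : p₀ = maximalIdeal A := le_antisymm (le_maximalIdeal hp₀.1.1.ne_top) fun x hx =>
    (hp₀.1.1.mem_or_mem (hp₀.1.2 (hm x hx))).resolve_right fun hb' => hbp (hle hb')
  intro Q hQ hcQ
  refine le_antisymm (le_maximalIdeal hQ.ne_top) ?_
  rw [← hp₀m]
  exact hp₀.2 ⟨hQ, (Ideal.span_singleton_le_iff_mem _).2 hcQ⟩ (hp₀m ▸ le_maximalIdeal hQ.ne_top)

set_option maxHeartbeats 1000000 in
/-- A point of the closed fibre of a flat scheme over a DVR with reduced closed fibre: a maximal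
point whose specializations in the closed fibre near `w` reduce to `w` makes `w` maximal in that
fibre, and a point maximal in the fibre lies under a single maximal point. -/
theorem max_fibre {P : Scheme.{u}} [IsLocallyNoetherian P] {R : Type u} [CommRing R] [IsDomain R]
    [IsDiscreteValuationRing R] (q : P ⟶ Spec (CommRingCat.of R)) [Flat q] (w : P)
    (hw : q w = closedPoint R) (hred : AlgebraicGeometry.IsReduced (q.fiber (q w))) :
    (∀ z : P, FlatOpen.EquiDim.Max z → z ⤳ w →
        (∀ v, z ⤳ v → v ⤳ w → q v = closedPoint R → v = w) →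
        ∀ v, v ⤳ w → q v = closedPoint R → v = w) ∧
      ((∀ v, v ⤳ w → q v = closedPoint R → v = w) → ∀ z z' : P, FlatOpen.EquiDim.Max z →
        FlatOpen.EquiDim.Max z' → z ⤳ w → z' ⤳ w → z = z') := by
  let A := (Spec (CommRingCat.of R)).presheaf.stalk (q w)
  let B := P.presheaf.stalk w
  obtain ⟨ε⟩ := FlatMor.FibreStalk.exists_fibre_stalk_equiv q w
  letI := (q.stalkMap w).hom.toAlgebra
  haveI : Module.Flat A B := Flat.stalkMap q w
  haveI : (q w).asIdeal.IsPrime := PrimeSpectrum.isPrime (q w)
  letI : Algebra R A := StructureSheaf.stalkAlgebra R (q w)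
  haveI : IsLocalization.AtPrime A (q w).asIdeal := StructureSheaf.IsLocalization.to_stalk R (q w)
  haveI : (q w).asIdeal.IsPrime := PrimeSpectrum.isPrime (q w)
  obtain ⟨π, hπ⟩ := IsDiscreteValuationRing.exists_irreducible R
  have hm : IsLocalRing.maximalIdeal R = Ideal.span {π} :=
    (IsDiscreteValuationRing.irreducible_iff_uniformizer π).mp hπ
  let ϖ : A := algebraMap R A π
  have hmA : IsLocalRing.maximalIdeal A = Ideal.span {ϖ} := by
    rw [← IsLocalization.AtPrime.map_eq_maximalIdeal (q w).asIdeal A,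
      show (q w).asIdeal = IsLocalRing.maximalIdeal R from congrArg PrimeSpectrum.asIdeal hw, hm, Ideal.map_span,
      Set.image_singleton]
  let c : B := (q.stalkMap w).hom ϖ
  have hI : (IsLocalRing.maximalIdeal A).map (q.stalkMap w).hom = Ideal.span {c} := by
    rw [hmA, Ideal.map_span, Set.image_singleton]
  haveI hBred : _root_.IsReduced (B ⧸ Ideal.span {c}) := by
    haveI := hred
    rw [← hI]
    exact isReduced_of_injective ε.toRingHom ε.injective
  have hrad : (Ideal.span {c}).IsRadical :=
    (Ideal.isRadical_iff_quotient_reduced _).2 hBred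
  have hϖ : IsSMulRegular A ϖ := by
    have hinj : Function.Injective (algebraMap R A) :=
      IsLocalization.injective A (q w).asIdeal.primeCompl_le_nonZeroDivisors
    haveI : IsDomain A := IsLocalization.isDomain_of_atPrime A (q w).asIdeal
    exact IsSMulRegular.of_ne_zero fun h => hπ.ne_zero (hinj (h.trans (map_zero _).symm))
  have hc : IsSMulRegular B c := hϖ.of_flat
  have hcm : c ∈ maximalIdeal B := map_nonunit (q.stalkMap w).hom ϖ
    (hmA.ge (Ideal.mem_span_singleton_self ϖ))
  have key : ∀ p : PrimeSpectrum B, q (P.fromSpecStalk w p) = closedPoint R ↔ c ∈ p.asIdeal := by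
    intro p
    have e : q (P.fromSpecStalk w p) =
        (Spec (CommRingCat.of R)).fromSpecStalk (q w) (PrimeSpectrum.comap (q.stalkMap w).hom p) :=
      congrArg (fun m => (m : _ ⟶ Spec (CommRingCat.of R)) p) (Scheme.SpecMap_stalkMap_fromSpecStalk q).symm
    rw [e, ← hw]
    have e₂ := (Scheme.fromSpecStalk_closedPoint (X := Spec (CommRingCat.of R)) (x := q w))
    constructor
    · intro h
      have := ((Spec (CommRingCat.of R)).fromSpecStalk (q w)).isEmbedding.injective (h.trans e₂.symm)
      have h2 : ϖ ∈ (PrimeSpectrum.comap (q.stalkMap w).hom p).asIdeal := by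
        rw [this]
        exact hmA.ge (Ideal.mem_span_singleton_self ϖ)
      exact h2
    · intro h
      refine Eq.trans (congrArg _ (PrimeSpectrum.ext ?_)) e₂
      refine (eq_maximalIdeal ?_)
      exact (Ideal.IsMaximal.eq_of_le (maximalIdeal.isMaximal A)
        (PrimeSpectrum.comap (q.stalkMap w).hom p).2.ne_top
        (hmA.le.trans ((Ideal.span_singleton_le_iff_mem _).2 h))) ▸ maximalIdeal.isMaximal A
  have hwp : ∀ p : PrimeSpectrum B, P.fromSpecStalk w p = w ↔ p.asIdeal = maximalIdeal B := by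
    intro p
    have e₂ := (Scheme.fromSpecStalk_closedPoint (X := P) (x := w))
    exact ⟨fun h => congrArg PrimeSpectrum.asIdeal ((P.fromSpecStalk w).isEmbedding.injective (h.trans e₂.symm)),
      fun h => (congrArg (P.fromSpecStalk w) (PrimeSpectrum.ext h)).trans e₂⟩
  constructor
  · intro z hz hzw h v hvw hv
    obtain ⟨p, rfl⟩ : z ∈ Set.range (P.fromSpecStalk w) := by rw [Scheme.range_fromSpecStalk]; exact hzw
    obtain ⟨p', rfl⟩ : v ∈ Set.range (P.fromSpecStalk w) := by rw [Scheme.range_fromSpecStalk]; exact hvw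
    refine (hwp p').2 (eq_maximalIdeal_of_reduced hc hcm hrad ((EquidimPt.max_iff_minimal w p).1 hz)
      (fun Q hQ hle hcQ => (hwp ⟨Q, hQ⟩).1 (h _ ?_ ?_ ((key ⟨Q, hQ⟩).2 hcQ))) _ p'.2 ((key p').1 hv))
    · exact ((PrimeSpectrum.le_iff_specializes p ⟨Q, hQ⟩).1 hle).map (P.fromSpecStalk w).continuous
    · have : P.fromSpecStalk w ⟨Q, hQ⟩ ∈ Set.range (P.fromSpecStalk w) := ⟨_, rfl⟩
      rw [Scheme.range_fromSpecStalk] at this
      exact this
  · intro h z z' hz hz' hzw hz'w
    refine S3410.unique_max_of_domain (S3410.isDomain_stalk_dvr q w hw (Flat.stalkMap q w) ?_) hzw hz'w hz hz'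
    suffices hspan : Ideal.span {c} = maximalIdeal B by
      refine ε.symm.toMulEquiv.isDomain_iff.mpr ?_
      rw [Ideal.Quotient.isDomain_iff_prime, hI, hspan]
      exact (maximalIdeal.isMaximal B).isPrime
    rw [← hrad.radical, Ideal.radical_eq_sInf]
    refine le_antisymm (sInf_le ⟨(Ideal.span_singleton_le_iff_mem _).2 hcm,
      (maximalIdeal.isMaximal B).isPrime⟩) (le_sInf fun Q hQ => ?_)
    have := h (P.fromSpecStalk w ⟨Q, hQ.2⟩) (by
      have : P.fromSpecStalk w ⟨Q, hQ.2⟩ ∈ Set.range (P.fromSpecStalk w) := ⟨_, rfl⟩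
      rw [Scheme.range_fromSpecStalk] at this
      exact this) ((key ⟨Q, hQ.2⟩).2 (hQ.1 (Ideal.mem_span_singleton_self c)))
    exact ((hwp ⟨Q, hQ.2⟩).1 this).ge

variable {X Y : Scheme.{u}}

/-- Maximal points parametrize irreducible components. -/
theorem encard_irreducibleComponents_eq_max (P : Scheme.{u}) :
    (irreducibleComponents ↥P).encard = {x : P | FlatOpen.EquiDim.Max x}.encard := by
  have e : irreducibleComponents ↥P =
      (fun x : P => closure ({x} : Set P)) '' {x : P | FlatOpen.EquiDim.Max x} := by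
    ext Z
    constructor
    · intro hZ
      obtain ⟨x, hx, rfl⟩ := FlatOpen.EquiDim.exists_max_closure_eq hZ
      exact ⟨x, hx, rfl⟩
    · rintro ⟨x, hx, rfl⟩
      exact FlatOpen.EquiDim.closure_mem_irreducibleComponents hx
  rw [e, Set.InjOn.encard_image]
  intro a _ b _ hab
  exact (inseparable_iff_closure_eq.2 hab).eq

set_option maxHeartbeats 1000000 in
/-- The generic fibre over a DVR has at most as many components as the geometric closed fibre. -/
theorem irred_generic_le (f : X ⟶ Y) [IsProper f] [Flat f] {y : Y}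
    (hred : GeometricallyReduced (f.fiberToSpecResidueField y))
    (R' : Type u) [CommRing R'] [IsDomain R'] [IsDiscreteValuationRing R']
    (L : Type u) [Field L] [Algebra R' L] [IsFractionRing R' L]
    (u' : Spec (CommRingCat.of R') ⟶ Y) (hu'c : u' (closedPoint R') = y) :
    (irreducibleComponents ↥(pullback f
      (Spec.map (CommRingCat.ofHom (algebraMap R' L)) ≫ u'))).encard ≤ MoreMor.nGeomIrredComp f y := by
  let q := pullback.snd f u'
  haveI : IsProper q := inferInstanceAs (IsProper (pullback.snd f u'))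
  haveI : IsLocallyNoetherian (pullback f u') := LocallyOfFiniteType.isLocallyNoetherian q
  haveI : CompactSpace ↥(pullback f u') := QuasiCompact.compactSpace_of_compactSpace q
  haveI : IsNoetherian (pullback f u') := {}
  have ht : ∀ t : PrimeSpectrum R', t = closedPoint R' ∨ t = ⊥ := fun t => by
    rcases eq_or_ne t.asIdeal ⊥ with h0 | h0
    · exact Or.inr (PrimeSpectrum.ext h0)
    · exact Or.inl (PrimeSpectrum.ext (eq_maximalIdeal (IsPrime.to_maximal_ideal (hpi := t.isPrime) h0)))
  -- closed fibre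
  let res : Spec (CommRingCat.of (ResidueField R')) ⟶ Spec (CommRingCat.of R') :=
    Spec.map (CommRingCat.ofHom (residue R'))
  have hres : ∀ t, res t = closedPoint R' := fun t => PrimeSpectrum.ext (by
    show t.asIdeal.comap (residue R') = maximalIdeal R'
    rw [(Ideal.eq_bot_or_top t.asIdeal).resolve_right t.2.ne_top, ← RingHom.ker_eq_comap_bot]
    exact ker_residue)
  let P := pullback q res
  haveI : Flat q := inferInstanceAs (Flat (pullback.snd f u'))
  let Ω := AlgebraicClosure (ResidueField R')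
  let ω : Spec (CommRingCat.of Ω) ⟶ Spec (CommRingCat.of (ResidueField R')) :=
    Spec.map (CommRingCat.ofHom (algebraMap (ResidueField R') Ω))
  haveI : Surjective ω :=
    ⟨fun t => ⟨(closedPoint Ω : PrimeSpectrum Ω), Subsingleton.elim (α := PrimeSpectrum (ResidueField R')) _ _⟩⟩
  have hpb := (IsPullback.of_hasPullback q res).paste_horiz (IsPullback.of_hasPullback f u')
  let πΩ := pullback.fst (pullback.snd q res) ω
  haveI : Flat ω := (HasRingHomProperty.Spec_iff (P := @Flat)).mpr
    (RingHom.flat_algebraMap_iff.mpr inferInstance)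
  haveI : Flat πΩ := inferInstanceAs (Flat (pullback.fst _ _))
  have hn : (irreducibleComponents ↥(pullback (pullback.snd q res) ω)).encard =
      MoreMor.nGeomIrredComp f y := by
    rw [(SecComp.nGeom_eq (pullback.snd q res) ω).1, (Wt.GenFib.nGeom_baseChange
      ((IsPullback.of_hasPullback q res).paste_horiz (IsPullback.of_hasPullback f u')) _).1]
    congr 1
    exact (congrArg u' (hres _)).trans hu'c
  rw [← hn]
  let i := pullback.fst q res
  haveI : IsClosedImmersion res := IsClosedImmersion.spec_of_surjective _ residue_surjective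
  haveI : IsClosedImmersion i := inferInstanceAs (IsClosedImmersion (pullback.fst q res))
  have hr : Set.range i = q ⁻¹' {closedPoint R'} := by
    rw [Scheme.Pullback.range_fst]
    congr 1
    refine Set.eq_singleton_iff_unique_mem.2 ⟨⟨closedPoint (ResidueField R'), hres _⟩, ?_⟩
    rintro _ ⟨t, rfl⟩
    exact hres t
  have hfred : ∀ w, q w = closedPoint R' → AlgebraicGeometry.IsReduced (q.fiber (q w)) := fun w hw => by
    haveI : AlgebraicGeometry.IsReduced (pullback f ((Spec (CommRingCat.of R')).fromSpecResidueField (q w) ≫ u')) :=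
      isReduced_pullback f hred _
        ((congrArg u' ((Scheme.fromSpecResidueField_apply _ _).trans hw)).trans hu'c)
    let t : ↥(Spec (CommRingCat.of R')) := q w
    let e := pullbackLeftPullbackSndIso f u' ((Spec (CommRingCat.of R')).fromSpecResidueField t)
    exact @isReduced_of_isOpenImmersion _ _ e.hom (IsOpenImmersion.of_isIso e.hom) ‹_›
  let gen : Spec (CommRingCat.of L) ⟶ Spec (CommRingCat.of R') :=
    Spec.map (CommRingCat.ofHom (algebraMap R' L))
  haveI : IsPreimmersion gen := IsPreimmersion.of_isLocalization (nonZeroDivisors R')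
  let G := pullback q gen
  rw [← Wt.GenFib.encard_irreducibleComponents_of_homeomorph
    (Scheme.homeoOfIso (pullbackLeftPullbackSndIso f u' gen))]
  let j : G ⟶ pullback f u' := pullback.fst q gen
  have hrange : Set.range j = q ⁻¹' {(⊥ : PrimeSpectrum R')} := by
    rw [Scheme.Pullback.range_fst]
    congr 1
    ext t
    constructor
    · rintro ⟨s, rfl⟩
      refine PrimeSpectrum.ext ?_
      show s.asIdeal.comap (algebraMap R' L) = ⊥
      rw [(Ideal.eq_bot_or_top s.asIdeal).resolve_right s.2.ne_top]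
      exact Ideal.comap_bot_of_injective _ (IsFractionRing.injective R' L)
    · rintro rfl
      exact ⟨(⊥ : PrimeSpectrum L), PrimeSpectrum.ext
        (Ideal.comap_bot_of_injective _ (IsFractionRing.injective R' L))⟩
  have hjmax : ∀ z : G, FlatOpen.EquiDim.Max z → FlatOpen.EquiDim.Max (j z) := by
    intro z hz v hv
    have hvb : q v = (⊥ : PrimeSpectrum R') := by
      have h2 : q v ⤳ q (j z) := hv.map q.continuous
      rw [show q (j z) = (⊥ : PrimeSpectrum R') from hrange.le ⟨z, rfl⟩] at h2
      exact PrimeSpectrum.ext (le_bot_iff.1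
        (show (q v).asIdeal ≤ (⊥ : Ideal R') from (PrimeSpectrum.le_iff_specializes _ _).2 h2))
    obtain ⟨v', rfl⟩ := hrange.ge hvb
    rw [hz v' (j.isEmbedding.isInducing.specializes_iff.1 hv)]
  have hex : ∀ z : G, FlatOpen.EquiDim.Max z → ∃ w : ↥(pullback (pullback.snd q res) ω),
      FlatOpen.EquiDim.Max w ∧ ∀ z' : ↥(pullback f u'), FlatOpen.EquiDim.Max z' →
        z' ⤳ i (πΩ w) → z' = j z := by
    intro z hz
    obtain ⟨b, hb, hqb⟩ : closedPoint R' ∈ q '' closure {j z} :=
      (specializes_closedPoint (q (j z))).mem_closed (q.isClosedMap _ isClosed_closure)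
        ⟨j z, subset_closure rfl, rfl⟩
    obtain ⟨b, rfl⟩ := hr.ge hqb
    obtain ⟨w₀, hw₀, hmax⟩ : ∃ w₀ : ↥(pullback q res), j z ⤳ i w₀ ∧
        ∀ v, v ⤳ w₀ → j z ⤳ i v → v = w₀ := by
      let T : Set ↥(pullback q res) := i ⁻¹' closure {j z}
      obtain ⟨C, hC, hbC⟩ : ∃ C ∈ irreducibleComponents ↥T, (⟨b, hb⟩ : T) ∈ C :=
        ⟨_, irreducibleComponent_mem_irreducibleComponents _, mem_irreducibleComponent⟩
      haveI : QuasiSober ↥T := (isClosed_closure.preimage i.continuous).isClosedEmbedding_subtypeVal.quasiSober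
      obtain ⟨w, hw⟩ := QuasiSober.sober hC.1 (isClosed_of_mem_irreducibleComponents C hC)
      refine ⟨w.1, specializes_iff_mem_closure.2 w.2, fun v hv hjv => ?_⟩
      let v' : T := ⟨v, specializes_iff_mem_closure.1 hjv⟩
      have hv' : v' ⤳ w := (subtype_specializes_iff _ _).2 hv
      have hsub : C ⊆ closure {v'} := by
        rw [← hw.def]
        exact closure_minimal (Set.singleton_subset_iff.2 (specializes_iff_mem_closure.1 hv')) isClosed_closure
      have : v' ∈ C := hC.2 isIrreducible_singleton.closure hsub (subset_closure rfl)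
      exact congrArg Subtype.val ((hw.specializes this).antisymm hv').eq.symm
    have hqw : q (i w₀) = closedPoint R' := hr.le ⟨w₀, rfl⟩
    obtain ⟨h1, h2⟩ := max_fibre q (i w₀) hqw (hfred _ hqw)
    have hfib : ∀ v, v ⤳ i w₀ → q v = closedPoint R' → v = i w₀ := h1 (j z) (hjmax z hz) hw₀
      fun v hzv hvw hv => by
        obtain ⟨v, rfl⟩ := hr.ge hv
        rw [hmax v (i.isEmbedding.isInducing.specializes_iff.1 hvw) hzv]
    obtain ⟨w₁, hw₁⟩ := πΩ.surjective w₀
    obtain ⟨w, hww, hwmax⟩ := FlatOpen.EquiDim.exists_max w₁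
    have hiw : i (πΩ w) = i w₀ := hfib _ ((hw₁ ▸ hww.map πΩ.continuous).map i.continuous) (hr.le ⟨_, rfl⟩)
    exact ⟨w, hwmax, fun z' hz' h => h2 hfib z' (j z) hz' (hjmax z hz) (hiw ▸ h) hw₀⟩
  rw [encard_irreducibleComponents_eq_max, encard_irreducibleComponents_eq_max]
  choose w hw using hex
  rw [← ENat.card_coe_set_eq, ← ENat.card_coe_set_eq]
  refine ENat.card_le_card_of_injective (f := fun z => ⟨w z.1 z.2, (hw z.1 z.2).1⟩) fun z z' hzz => ?_
  replace hzz : w z.1 z.2 = w z'.1 z'.2 := congrArg Subtype.val hzz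
  obtain ⟨m, hm, hmM⟩ := FlatOpen.EquiDim.exists_max (i (πΩ (w z.1 z.2)))
  exact Subtype.ext (j.isEmbedding.injective
    (((hw z.1 z.2).2 m hmM hm).symm.trans ((hw z'.1 z'.2).2 m hmM (hzz ▸ hm))))

/-- For a proper flat morphism the geometric number of irreducible components does not drop under
specialization to a point with geometrically reduced fibre. -/
theorem irred_ge_of_specializes [IsLocallyNoetherian Y] (f : X ⟶ Y) [IsProper f] [Flat f] {y' y : Y}
    (hyy : y' ⤳ y) (hred : GeometricallyReduced (f.fiberToSpecResidueField y)) :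
    MoreMor.nGeomIrredComp f y' ≤ MoreMor.nGeomIrredComp f y := by
  rcases eq_or_ne y' y with rfl | hne
  · exact le_rfl
  obtain ⟨R, _, _, _, u, hu, hu'⟩ := RatMapExt.exists_dvr_of_specializes hyy hne
  let K₀ := FractionRing R
  let pt₀ : Spec (CommRingCat.of K₀) ⟶ Y := Spec.map (CommRingCat.ofHom (algebraMap R K₀)) ≫ u
  obtain ⟨L, _, _, _, hLe⟩ := exists_finite_irred_le (pullback.snd f pt₀)
  replace hLe := ((congrArg (MoreMor.nGeomIrredComp f) (hu' _)).symm.trans
    (Wt.GenFib.nGeom_baseChange (IsPullback.of_hasPullback f pt₀) (closedPoint K₀)).1.symm).trans_le hLe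
  letI : Algebra R L := ((algebraMap K₀ L).comp (algebraMap R K₀)).toAlgebra
  haveI : IsScalarTower R K₀ L := IsScalarTower.of_algebraMap_eq' rfl
  obtain ⟨R', hR', hRR', hmR'⟩ := DVRDom.exists_dvr_dominating R (IsDiscreteValuationRing.not_isField R)
    K₀ L (IntermediateField.fg_top_iff.mpr inferInstance)
  haveI := hR'
  let φ : R →+* R' := (algebraMap R L).codRestrict R'.toSubring hRR'
  let u' : Spec (CommRingCat.of R') ⟶ Y := Spec.map (CommRingCat.ofHom φ) ≫ u
  have hu'c : u' (closedPoint R') = y := by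
    refine (congrArg u ?_).trans hu
    refine PrimeSpectrum.ext ?_
    show (maximalIdeal R').comap φ = maximalIdeal R
    refine ((maximalIdeal.isMaximal R).eq_of_le (Ideal.IsPrime.comap φ).ne_top fun a ha => ?_).symm
    rw [Ideal.mem_comap, R'.valuation_lt_one_iff]
    exact hmR' a ha
  let gen : Spec (CommRingCat.of L) ⟶ Spec (CommRingCat.of R') :=
    Spec.map (CommRingCat.ofHom (algebraMap R' L))
  have e : Spec.map (CommRingCat.ofHom (algebraMap K₀ L)) ≫ pt₀ = gen ≫ u' := by
    simp only [pt₀, gen, u', ← Category.assoc, ← Spec.map_comp]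
    rfl
  refine (hLe.trans_eq ?_).trans (irred_generic_le f hred R' L u' hu'c)
  exact Wt.GenFib.encard_irreducibleComponents_of_homeomorph
    (Scheme.homeoOfIso (pullbackLeftPullbackSndIso f pt₀ _ ≪≫ pullback.congrHom rfl e))

end Groth.Agent.ProperConn
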