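import Groth.Agent.ProperConn.Integral
import Groth.Agent.GRLocus.Constructible

/-!
# The locus of points where the fibre is geometrically pointwise integral
-/

set_option autoImplicit false
set_option linter.style.haveILetI false

universe u

open CategoryTheory CategoryTheory.Limits AlgebraicGeometry Topology TopologicalSpace IsLocalRing

namespace Groth.Agent.ProperConn

variable {X Y : Scheme.{u}}

/-- The points at which the fibre is geometrically pointwise integral. -/
def piLocus (f : X ⟶ Y) : Set X :=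
  {x : X | FBase.IsGeomPtIntegralAt (f.fiberToSpecResidueField (f x)) (f.asFiber x)}

/-- A point of a geometric fibre above `x`, seen in the base change of the fibre through `x`. -/
theorem exists_bc_point (f : X ⟶ Y) {L : Type u} [Field L] {P : Scheme.{u}} {a : P ⟶ X}
    {b : P ⟶ Spec (CommRingCat.of L)} {pt : Spec (CommRingCat.of L) ⟶ Y} (hc : IsPullback a b f pt)
    (p : P) : ∃ (_ : Algebra (IsLocalRing.ResidueField (Y.presheaf.stalk (f (a p)))) L)
      (q : ↥(FBase.bc (f.fiberToSpecResidueField (f (a p))) L)),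
      FBase.bcπ (f.fiberToSpecResidueField (f (a p))) L q = f.asFiber (a p) ∧
      Nonempty (P.presheaf.stalk p ≃+*
        (FBase.bc (f.fiberToSpecResidueField (f (a p))) L).presheaf.stalk q) := by
  have hpt : pt (closedPoint L) = f (a p) := by
    rw [← Scheme.Hom.comp_apply a f, hc.w, Scheme.Hom.comp_apply]
    exact congrArg pt (Subsingleton.elim (α := PrimeSpectrum L) _ _)
  obtain ⟨ψ, hψ⟩ : ∃ ψ : Spec (CommRingCat.of L) ⟶ Spec (Y.residueField (f (a p))),
      pt = ψ ≫ Y.fromSpecResidueField (f (a p)) := by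
    rw [← hpt]
    exact ⟨_, ((Y.SpecToEquivOfField L).symm_apply_apply pt).symm⟩
  obtain ⟨φ, rfl⟩ := Spec.map_surjective ψ
  letI alg : Algebra (IsLocalRing.ResidueField (Y.presheaf.stalk (f (a p)))) L := φ.hom.toAlgebra
  let fy := f.fiberToSpecResidueField (f (a p))
  have h1 : IsPullback (pullback.fst fy (Spec.map φ) ≫ f.fiberι (f (a p))) (pullback.snd fy (Spec.map φ)) f pt := by
    rw [hψ]
    exact (IsPullback.of_hasPullback fy (Spec.map φ)).paste_horiz
      (IsPullback.of_hasPullback f (Y.fromSpecResidueField (f (a p))))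
  let e := hc.isoIsPullback _ _ h1
  have he : e.hom ≫ pullback.fst fy (Spec.map φ) ≫ f.fiberι (f (a p)) = a := hc.isoIsPullback_hom_fst _ _ h1
  refine ⟨alg, e.hom p, ?_, ⟨(asIso (e.hom.stalkMap p)).commRingCatIsoToRingEquiv.symm⟩⟩
  apply (f.fiberι (f (a p))).isEmbedding.injective
  rw [f.fiberι_asFiber]
  exact congrArg (fun m => (m : _ ⟶ X) p) he

/-- The locus is read off at any algebraically closed point. -/
theorem mem_piLocus_iff (f : X ⟶ Y) {L : Type u} [Field L] [IsAlgClosed L] {P : Scheme.{u}} {a : P ⟶ X}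
    {b : P ⟶ Spec (CommRingCat.of L)} {pt : Spec (CommRingCat.of L) ⟶ Y} (hc : IsPullback a b f pt)
    (p : P) : a p ∈ piLocus f ↔ IsDomain (P.presheaf.stalk p) := by
  obtain ⟨alg, q, hq, ⟨e⟩⟩ := exists_bc_point f hc p
  show FBase.IsGeomPtIntegralAt _ _ ↔ _
  rw [← hq]
  exact ((S4630.result _ q).trans (S4631.result _ q)).trans e.toMulEquiv.isDomain_iff.symm

theorem isReduced_stalk_of_mem_locus (f : X ⟶ Y) {L : Type u} [Field L] {P : Scheme.{u}} {a : P ⟶ X}
    {b : P ⟶ Spec (CommRingCat.of L)} {pt : Spec (CommRingCat.of L) ⟶ Y} (hc : IsPullback a b f pt)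
    (p : P) (h : a p ∈ GRLocus.locus f) : _root_.IsReduced (P.presheaf.stalk p) := by
  obtain ⟨alg, q, hq, ⟨e⟩⟩ := exists_bc_point f hc p
  haveI := @h L _ alg q hq
  exact isReduced_of_injective e.toRingHom e.injective

theorem exists_geometric_point (f : X ⟶ Y) (x : X) :
    ∃ (L : Type u) (_ : Field L) (_ : IsAlgClosed L) (pt : Spec (CommRingCat.of L) ⟶ Y)
      (p : ↥(pullback f pt)), pullback.fst f pt p = x := by
  obtain ⟨L, _, _, pt, hpt⟩ := SecComp.exists_algClosed_point Y (f x)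
  obtain ⟨p, hp, -⟩ := Scheme.Pullback.exists_preimage_pullback x (closedPoint L : PrimeSpectrum L)
    (hpt _).symm
  exact ⟨L, inferInstance, inferInstance, pt, p, hp⟩

theorem mem_piLocus_baseChange {X' Y' : Scheme.{u}} {f : X ⟶ Y} {f' : X' ⟶ Y'} {g' : X' ⟶ X}
    {g : Y' ⟶ Y} (hc : IsPullback g' f' f g) (x' : X') : x' ∈ piLocus f' ↔ g' x' ∈ piLocus f := by
  obtain ⟨L, _, _, pt, p, rfl⟩ := exists_geometric_point f' x'
  have h1 := IsPullback.of_hasPullback f' pt
  rw [mem_piLocus_iff f' h1 p, ← Scheme.Hom.comp_apply, mem_piLocus_iff f (h1.paste_horiz hc) p]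

theorem mem_piLocus_comp_open {X' : Scheme.{u}} (f : X ⟶ Y) (j : X' ⟶ X) [IsOpenImmersion j] (z : X') :
    z ∈ piLocus (j ≫ f) ↔ j z ∈ piLocus f := by
  obtain ⟨L, _, _, pt, p, rfl⟩ := exists_geometric_point (j ≫ f) z
  let m : pullback (j ≫ f) pt ⟶ pullback f pt :=
    pullback.lift (pullback.fst _ _ ≫ j) (pullback.snd _ _) (by rw [Category.assoc, pullback.condition])
  have hsq : IsPullback (pullback.fst (j ≫ f) pt) m j (pullback.fst f pt) :=
    IsPullback.of_bot (by rw [pullback.lift_snd]; exact IsPullback.of_hasPullback (j ≫ f) pt)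
      (pullback.lift_fst _ _ _).symm (IsPullback.of_hasPullback f pt)
  haveI : IsOpenImmersion m := MorphismProperty.of_isPullback (P := @IsOpenImmersion) hsq inferInstance
  have hm : pullback.fst f pt (m p) = j (pullback.fst (j ≫ f) pt p) := by
    rw [← Scheme.Hom.comp_apply, pullback.lift_fst, Scheme.Hom.comp_apply]
  rw [mem_piLocus_iff (j ≫ f) (IsPullback.of_hasPullback (j ≫ f) pt) p, ← hm,
    mem_piLocus_iff f (IsPullback.of_hasPullback f pt) (m p)]
  exact (asIso (m.stalkMap p)).commRingCatIsoToRingEquiv.toMulEquiv.isDomain_iff.symm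

theorem mem_piLocus_restrict_iff {X' Y' : Scheme.{u}} {f : X ⟶ Y} {f' : X' ⟶ Y'} {j : X' ⟶ X}
    {i : Y' ⟶ Y} [IsOpenImmersion j] [IsOpenImmersion i] (w : f' ≫ i = j ≫ f) (z : X') :
    z ∈ piLocus f' ↔ j z ∈ piLocus f := by
  rw [← mem_piLocus_comp_open f j z, ← w]
  have h1 : IsPullback (𝟙 X') f' (f' ≫ i) i := by
    have hk : IsPullback (𝟙 Y') (𝟙 Y') i i := IsKernelPair.id_of_mono i
    exact (IsPullback.of_horiz_isIso ⟨by simp⟩ : IsPullback (𝟙 X') f' f' (𝟙 Y')).paste_vert hk
  exact mem_piLocus_baseChange h1 z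

open SecComp in
/-- Generic description over a locally closed stratum. -/
theorem exists_stratum (f : X ⟶ Y) [LocallyOfFiniteType f] [QuasiCompact f] (y : Y) :
    ∃ (O : Set Y) (K : Set X), IsOpen O ∧ y ∈ O ∧ IsClosed K ∧
      ∀ x : X, f x ∈ O ∩ closure {y} → (x ∈ piLocus f ↔ x ∈ GRLocus.locus f ∧ x ∉ K) := by
  obtain ⟨A, _, X', u, e, j, hc, hj, hfl, hfp, hqc, hcs, ⟨O₀, hO₀, hr⟩, hgen⟩ := exists_model_closure f y
  haveI : IsPreimmersion e := MorphismProperty.of_isPullback hc.flip hj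
  let u₂ := pullback.snd u (toBase A)
  let π := pullback.fst u (toBase A)
  haveI : Flat u₂ := MorphismProperty.of_isPullback (IsPullback.of_hasPullback u (toBase A)) hfl
  haveI : LocallyOfFinitePresentation u₂ :=
    MorphismProperty.of_isPullback (IsPullback.of_hasPullback u (toBase A)) hfp
  haveI : QuasiCompact u₂ := MorphismProperty.of_isPullback (IsPullback.of_hasPullback u (toBase A)) hqc
  haveI : CompactSpace ↥(pullback u (toBase A)) := QuasiCompact.compactSpace_of_compactSpace u₂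
  haveI : IsIntegralHom (toBase A) := isIntegralHom_toBase A
  haveI : IsIntegralHom π :=
    MorphismProperty.of_isPullback (IsPullback.of_hasPullback u (toBase A)).flip (isIntegralHom_toBase A)
  haveI : Surjective π :=
    MorphismProperty.of_isPullback (IsPullback.of_hasPullback u (toBase A)).flip (surjective_toBase A)
  obtain ⟨V, ι, C, G, hηV, hCc, hι, -, hV⟩ := exists_comp_cover u₂
  obtain ⟨b, hb, hbV⟩ := exists_basicOpen_le A hηV
  let D : Set ↥(pullback u (toBase A)) := ⋃ ik : {ik : ι × ι // ik.1 ≠ ik.2}, C ik.1.1 ∩ C ik.1.2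
  have hD : IsClosed D := isClosed_iUnion_of_finite fun ik => (hCc _).inter (hCc _)
  obtain ⟨K, hK, hKeq⟩ := e.isEmbedding.isInducing.isClosed_iff.mp (π.isClosedMap _ hD)
  obtain ⟨O', hO', hV'⟩ := exists_isOpen_image_inter j.isEmbedding hO₀ hr
    (PrimeSpectrum.basicOpen b).isOpen
  have hηb : genericPoint (Spec A) ∈ PrimeSpectrum.basicOpen b := mem_basicOpen_of_ne_zero hb
  refine ⟨O', K, hO', (hV'.le ⟨_, hηb, hgen⟩).1, hK, fun x hx => ?_⟩
  obtain ⟨s, hs, hsx⟩ := hV'.ge hx
  obtain ⟨x', rfl, hxs⟩ := Scheme.exists_preimage_of_isPullback hc x s hsx.symm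
  have hgr : e x' ∈ GRLocus.locus f ↔ x' ∈ GRLocus.locus u :=
    ⟨fun h => SecDim.isGeomReducedAt_baseChange hc x' h, fun h => SecComp.isGeomReducedAt_descend hc x' h⟩
  have hKx : e x' ∈ K ↔ x' ∈ π '' D := Set.ext_iff.1 hKeq x'
  rw [← mem_piLocus_baseChange hc x', hgr, hKx]
  -- a geometric point above a given point of the model over the absolute closure
  have key : ∀ z, π z = x' → (x' ∈ piLocus u ↔ x' ∈ GRLocus.locus u ∧ z ∉ D) ∧
      (x' ∈ piLocus u → x' ∈ GRLocus.locus u) := by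
    intro z hz
    have hsub : x' ∈ piLocus u → x' ∈ GRLocus.locus u := fun h K _ _ w hw => by
      haveI : IsDomain _ := @h K _ _ w hw
      infer_instance
    refine ⟨?_, hsub⟩
    obtain ⟨L, _, _, pt, p, hp⟩ := exists_geometric_point u₂ z
    have h1 := (IsPullback.of_hasPullback u₂ pt).paste_horiz (IsPullback.of_hasPullback u (toBase A))
    have hap : (pullback.fst u₂ pt ≫ π) p = x' := by rw [Scheme.Hom.comp_apply, hp, hz]
    have hV2 := hV L pt fun t => by
      refine hbV ?_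
      show toBase A (pt t) ∈ ((PrimeSpectrum.basicOpen b : Opens (PrimeSpectrum A)) : Set (PrimeSpectrum A))
      rw [show t = (pullback.snd u₂ pt) p from Subsingleton.elim (α := PrimeSpectrum L) _ _,
        ← Scheme.Hom.comp_apply, ← Scheme.Hom.comp_apply,
        show pullback.snd u₂ pt ≫ pt ≫ toBase A = (pullback.fst u₂ pt ≫ π) ≫ u from by
          rw [← pullback.condition_assoc, Category.assoc, pullback.condition],
        Scheme.Hom.comp_apply, hap, hxs]
      exact hs
    rw [← hap, mem_piLocus_iff u h1 p]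
    have hcomp := hV2.1.irreducibleComponents_eq
    constructor
    · intro hd
      refine ⟨hap.symm ▸ hsub (hap ▸ (mem_piLocus_iff u h1 p).2 hd), fun hzD => ?_⟩
      obtain ⟨⟨⟨i, k⟩, hik⟩, hi, hk⟩ := Set.mem_iUnion.1 hzD
      have hprime : (nilradical ((pullback u₂ pt).presheaf.stalk p)).IsPrime := by
        rw [nilradical_eq_zero]
        exact Ideal.isPrime_bot
      refine hik (hV2.1.injective ((SchPoints.isPrime_nilradical_stalk_iff p).1 hprime _ (hcomp ▸ ⟨i, rfl⟩)
        _ (hcomp ▸ ⟨k, rfl⟩) ?_ ?_))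
      · show pullback.fst u₂ pt p ∈ C i
        rw [hp]; exact hi
      · show pullback.fst u₂ pt p ∈ C k
        rw [hp]; exact hk
    · rintro ⟨hg, hzD⟩
      haveI := isReduced_stalk_of_mem_locus u h1 p hg
      have hprime := (SchPoints.isPrime_nilradical_stalk_iff p).2 fun Z hZ W hW hpZ hpW => by
        rw [hcomp] at hZ hW
        obtain ⟨i, rfl⟩ := hZ
        obtain ⟨k, rfl⟩ := hW
        by_contra hne
        exact hzD (Set.mem_iUnion.2 ⟨⟨(i, k), fun h => hne (congrArg (fun i => pullback.fst u₂ pt ⁻¹' C i) h)⟩,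
          hp ▸ hpZ, hp ▸ hpW⟩)
      rw [nilradical_eq_zero] at hprime
      exact @IsDomain.of_bot_isPrime _ _ hprime
  obtain ⟨z₀, hz₀⟩ := π.surjective x'
  constructor
  · intro h
    exact ⟨(key z₀ hz₀).2 h, fun ⟨z, hzD, hz⟩ => ((key z hz).1.1 h).2 hzD⟩
  · rintro ⟨hg, hn⟩
    exact (key z₀ hz₀).1.2 ⟨hg, fun hzD => hn ⟨z₀, hzD, hz₀⟩⟩

theorem isConstructible_piLocus_noetherian [IsNoetherian Y] [IsNoetherian X] (f : X ⟶ Y)
    [LocallyOfFiniteType f] [QuasiCompact f] : IsConstructible (piLocus f) := by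
  suffices H : ∀ F : Set Y, IsClosed F → IsConstructible (piLocus f ∩ f ⁻¹' F) by
    simpa using H Set.univ isClosed_univ
  intro F hF
  refine ConstrLib.irreducible_induction (P := fun F => IsConstructible (piLocus f ∩ f ⁻¹' F)) (by simp)
    (fun A B _ _ hA hB => by simp only [Set.preimage_union, Set.inter_union_distrib_left]; exact hA.union hB)
    ?_ hF
  intro F hF hFi ih
  obtain ⟨y, hy⟩ := QuasiSober.sober hFi hF
  obtain ⟨O, K, hO, hyO, hK, hEq⟩ := exists_stratum f y
  rw [hy.def] at hEq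
  have h1 : piLocus f ∩ (f ⁻¹' O ∩ f ⁻¹' F) = GRLocus.locus f ∩ Kᶜ ∩ (f ⁻¹' O ∩ f ⁻¹' F) := by
    ext x
    constructor
    · rintro ⟨hx, hxO⟩; exact ⟨(hEq x hxO).1 hx, hxO⟩
    · rintro ⟨hx, hxO⟩; exact ⟨(hEq x hxO).2 hx, hxO⟩
  have hloc : IsConstructible (piLocus f ∩ (f ⁻¹' O ∩ f ⁻¹' F)) := by
    rw [h1]
    exact ((GRLocus.isConstructible_locus_noetherian f).inter
      (ConstrLib.isConstructible_of_isOpen hK.isOpen_compl)).inter
      ((ConstrLib.isConstructible_of_isOpen (hO.preimage f.continuous)).inter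
        (ConstrLib.isConstructible_of_isClosed (hF.preimage f.continuous)))
  have hrest := ih (F \ O) (hF.sdiff hO) (ConstrLib.sdiff_open_ssubset ⟨y, hyO, hy.mem⟩)
  convert hloc.union hrest using 1
  rw [← Set.inter_union_distrib_left]
  congr 1
  ext x
  simp only [Set.mem_union, Set.mem_inter_iff, Set.mem_preimage, Set.mem_diff]
  tauto

theorem isLocallyConstructible_piLocus_of_limit {I : Type u} [SmallCategory I] [IsCofiltered I]
    {D : I ⥤ Scheme.{u}} {c : Cone D} (hc : IsLimit c) [∀ i, IsAffine (D.obj i)]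
    [∀ i, IsNoetherian (D.obj i)] [IsAffine c.pt] (f : X ⟶ c.pt)
    [LocallyOfFinitePresentation f] [QuasiCompact f] [QuasiSeparated f] :
    IsLocallyConstructible (piLocus f) := by
  haveI := QuasiCompact.compactSpace_of_compactSpace f
  haveI := quasiSeparatedSpace_of_quasiSeparated f
  obtain ⟨i₀, X₀, u₀, g₀, a₀, b₀, c₀, s₀⟩ := LimLib.hasModel hc f
  haveI := a₀
  haveI := b₀
  haveI := c₀
  haveI : QuasiCompact u₀ := quasiCompact_of_compactSpace u₀
  haveI : LocallyOfFiniteType u₀ := inferInstance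
  haveI : IsLocallyNoetherian X₀ := LocallyOfFiniteType.isLocallyNoetherian u₀
  haveI : IsNoetherian X₀ := {}
  have heq : piLocus f = g₀ ⁻¹' piLocus u₀ := Set.ext fun x => mem_piLocus_baseChange s₀ x
  rw [heq]
  exact ProConsPre.isLocallyConstructible_preimage g₀
    (isConstructible_piLocus_noetherian u₀).isLocallyConstructible

/-- The locus is locally constructible. -/
theorem isLocallyConstructible_piLocus (f : X ⟶ Y) [LocallyOfFinitePresentation f] :
    IsLocallyConstructible (piLocus f) := by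
  refine IsLocallyConstructible.of_isOpenCover
    (U := fun W : {W : Y.affineOpens × X.affineOpens // W.2.1 ≤ f ⁻¹ᵁ W.1.1} => W.1.2.1) ?_ fun W => ?_
  · refine TopologicalSpace.Opens.ext (Set.eq_univ_of_forall fun x => ?_)
    obtain ⟨V, hV, hxV, -⟩ := exists_isAffineOpen_mem_and_subset (x := f x) (U := ⊤) trivial
    obtain ⟨U, hU, hxU, hUV⟩ := exists_isAffineOpen_mem_and_subset (x := x) (U := f ⁻¹ᵁ V) hxV
    rw [TopologicalSpace.Opens.coe_iSup, Set.mem_iUnion]
    exact ⟨⟨(⟨V, hV⟩, ⟨U, hU⟩), hUV⟩, hxU⟩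
  obtain ⟨⟨⟨V, hV⟩, ⟨U, hU⟩⟩, hUV⟩ := W
  obtain ⟨I, _, _, D, c, e, ⟨hc⟩, _, _⟩ := ConsPairLib.exists_noetherian_limit Γ(Y, V)
  haveI : IsAffine c.pt := .of_isIso e.hom
  haveI : IsAffine (U : Scheme.{u}) := hU
  let i : c.pt ≅ (V : Scheme.{u}) := e ≪≫ hV.isoSpec.symm
  let f' : (U : Scheme.{u}) ⟶ c.pt := f.resLE V U hUV ≫ i.inv
  have w : f' ≫ (i.hom ≫ V.ι) = U.ι ≫ f := by
    simp only [f', Category.assoc, Iso.inv_hom_id_assoc, Scheme.Hom.resLE_comp_ι]
  haveI : LocallyOfFinitePresentation f' :=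
    inferInstanceAs (LocallyOfFinitePresentation (f.resLE V U hUV ≫ i.inv))
  haveI : IsAffineHom f' := isAffineHom_of_isAffine _
  have h := isLocallyConstructible_piLocus_of_limit hc f'
  have heq : piLocus f' = U.ι ⁻¹' piLocus f := Set.ext fun z => mem_piLocus_restrict_iff w z
  rw [heq] at h
  exact h

end Groth.Agent.ProperConn
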