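import Groth.Agent.ProperConn.PtInt

/-!
# Openness of the geometrically pointwise integral locus of a flat morphism
-/

set_option autoImplicit false
set_option linter.style.haveILetI false

universe u

open CategoryTheory CategoryTheory.Limits AlgebraicGeometry Topology TopologicalSpace IsLocalRing

namespace Groth.Agent.ProperConn

variable {X Y : Scheme.{u}}

theorem mem_locus_of_mem_piLocus (f : X ⟶ Y) {x : X} (h : x ∈ piLocus f) : x ∈ GRLocus.locus f :=
  fun K _ _ w hw => by
    haveI : IsDomain _ := @h K _ _ w hw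
    infer_instance

/-- After a finite extension the irreducible components become geometrically irreducible. -/
theorem exists_finite_geomIrred {k : Type u} [Field k] {X : Scheme.{u}}
    (f : X ⟶ Spec (CommRingCat.of k)) [LocallyOfFiniteType f] [QuasiCompact f] :
    ∃ (L : Type u) (_ : Field L) (_ : Algebra k L), FiniteDimensional k L ∧
      ∀ (K : Type u) [Field K] [Algebra L K]
        (Z : Set ↥(pullback f (Spec.map (CommRingCat.ofHom (algebraMap k L))))),
        Z ∈ irreducibleComponents _ → IsIrreducible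
          (pullback.fst (pullback.snd f (Spec.map (CommRingCat.ofHom (algebraMap k L))))
            (Spec.map (CommRingCat.ofHom (algebraMap L K))) ⁻¹' Z) := by
  letI : X.Over (Spec (CommRingCat.of k)) := ⟨f⟩
  haveI : IsLocallyNoetherian X := LocallyOfFiniteType.isLocallyNoetherian f
  haveI : CompactSpace ↥X := QuasiCompact.compactSpace_of_compactSpace f
  haveI : IsNoetherian X := {}
  haveI : Finite ↥(irreducibleComponents ↥X) := NoetherianSpace.finite_irreducibleComponents.to_subtype
  have hfd : ∀ x : X, FBase.ResidueFieldProp f x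
      (fun K _ _ ↦ FiniteDimensional k (separableClosure k K)) := fun x ↦ by
    refine ⟨Curv2.resMap k X x, (VarBC.fromSpecResidueField_comp (k := k) X x).symm, ?_⟩
    have h := GeomPts.essFiniteType_residueField f x
    have e : Spec.preimage (X.fromSpecResidueField x ≫ f) = CommRingCat.ofHom (Curv2.resMap k X x) :=
      Spec.map_injective (by rw [Spec.map_preimage]; exact VarBC.fromSpecResidueField_comp (k := k) X x)
    rw [e] at h
    letI := (Curv2.resMap k X x).toAlgebra
    have : Algebra.EssFiniteType k (X.residueField x) := h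
    exact VarBC.finiteDimensional_separableClosure
  obtain ⟨L, _, _, hfin, -, hL⟩ := S4646.result f fun Z hZ => hfd hZ.1.genericPoint
  exact ⟨L, inferInstance, inferInstance, hfin, fun K _ _ Z hZ => hL K Z hZ⟩

/-- A point of a reduced scheme over a component cover with irreducible preimages. -/
theorem isDomain_stalk_of_irreducible_preimage {P B : Scheme.{u}} (π : P ⟶ B) (p : P)
    (hirr : ∀ Z ∈ irreducibleComponents (B : Type u), IsIrreducible (π ⁻¹' Z))
    (hred : _root_.IsReduced (P.presheaf.stalk p)) (hdom : IsDomain (B.presheaf.stalk (π p))) :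
    IsDomain (P.presheaf.stalk p) := by
  have hB : (nilradical (B.presheaf.stalk (π p))).IsPrime := by
    rw [nilradical_eq_zero]
    exact Ideal.isPrime_bot
  have key : ∀ W ∈ irreducibleComponents (P : Type u), p ∈ W →
      ∃ Z ∈ irreducibleComponents (B : Type u), π p ∈ Z ∧ W = π ⁻¹' Z := fun W hW hpW => by
    obtain ⟨ξ, hξ⟩ := QuasiSober.sober hW.1 (isClosed_of_mem_irreducibleComponents W hW)
    have hle : W ⊆ π ⁻¹' irreducibleComponent (π ξ) := by
      rw [← hξ.def]
      exact closure_minimal (Set.singleton_subset_iff.mpr mem_irreducibleComponent)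
        (isClosed_irreducibleComponent.preimage π.continuous)
    exact ⟨_, irreducibleComponent_mem_irreducibleComponents _, hle hpW,
      hle.antisymm (hW.2 (hirr _ (irreducibleComponent_mem_irreducibleComponents _)) hle)⟩
  have hP := (SchPoints.isPrime_nilradical_stalk_iff p).2 fun W hW W' hW' hpW hpW' => by
    obtain ⟨Z, hZ, hpZ, rfl⟩ := key W hW hpW
    obtain ⟨Z', hZ', hpZ', rfl⟩ := key W' hW' hpW'
    rw [(SchPoints.isPrime_nilradical_stalk_iff (π p)).1 hB Z hZ Z' hZ' hpZ hpZ']
  rw [nilradical_eq_zero] at hP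
  exact @IsDomain.of_bot_isPrime _ _ hP

theorem mem_piLocus_of_specializes_aux [IsLocallyNoetherian X] [IsLocallyNoetherian Y] (f : X ⟶ Y) [Flat f]
    [LocallyOfFiniteType f] [QuasiCompact f] {x' x : X} (hxx : x' ⤳ x) (h : x ∈ piLocus f) :
    x' ∈ piLocus f := by
  rcases eq_or_ne x' x with rfl | hne
  · exact h
  obtain ⟨R, _, _, _, v, hv, hv'⟩ := RatMapExt.exists_dvr_of_specializes hxx hne
  let K₀ := FractionRing R
  let pt₀ : Spec (CommRingCat.of K₀) ⟶ Y := Spec.map (CommRingCat.ofHom (algebraMap R K₀)) ≫ v ≫ f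
  obtain ⟨L, _, _, _, hL⟩ := exists_finite_geomIrred (pullback.snd f pt₀)
  letI : Algebra R L := ((algebraMap K₀ L).comp (algebraMap R K₀)).toAlgebra
  haveI : IsScalarTower R K₀ L := IsScalarTower.of_algebraMap_eq' rfl
  obtain ⟨R', hR', hRR', hmR'⟩ := DVRDom.exists_dvr_dominating R (IsDiscreteValuationRing.not_isField R)
    K₀ L (IntermediateField.fg_top_iff.mpr inferInstance)
  haveI := hR'
  let φ : R →+* R' := (algebraMap R L).codRestrict R'.toSubring hRR'
  let v' : Spec (CommRingCat.of R') ⟶ X := Spec.map (CommRingCat.ofHom φ) ≫ v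
  have hv'c : v' (closedPoint R') = x := by
    refine (congrArg v ?_).trans hv
    refine PrimeSpectrum.ext ?_
    show (maximalIdeal R').comap φ = maximalIdeal R
    refine ((maximalIdeal.isMaximal R).eq_of_le (Ideal.IsPrime.comap φ).ne_top fun a ha => ?_).symm
    rw [Ideal.mem_comap, R'.valuation_lt_one_iff]
    exact hmR' a ha
  let gen : Spec (CommRingCat.of L) ⟶ Spec (CommRingCat.of R') :=
    Spec.map (CommRingCat.ofHom (algebraMap R' L))
  haveI : IsPreimmersion gen := IsPreimmersion.of_isLocalization (nonZeroDivisors R')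
  haveI : Flat gen := (HasRingHomProperty.Spec_iff (P := @Flat)).mpr
    (RingHom.flat_algebraMap_iff.mpr (IsLocalization.flat L (nonZeroDivisors R')))
  have hgenv : gen ≫ v' = Spec.map (CommRingCat.ofHom (algebraMap K₀ L)) ≫
      Spec.map (CommRingCat.ofHom (algebraMap R K₀)) ≫ v := by
    simp only [gen, v', ← Category.assoc, ← Spec.map_comp]
    rfl
  have e : Spec.map (CommRingCat.ofHom (algebraMap K₀ L)) ≫ pt₀ = gen ≫ v' ≫ f := by
    rw [← Category.assoc gen, hgenv]
    simp only [pt₀, Category.assoc]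
  let u' := v' ≫ f
  let q := pullback.snd f u'
  haveI : IsLocallyNoetherian (pullback f u') := LocallyOfFiniteType.isLocallyNoetherian q
  let sec : Spec (CommRingCat.of R') ⟶ pullback f u' := pullback.lift v' (𝟙 _) (by simp [u'])
  have hsec : ∀ t, pullback.fst f u' (sec t) = v' t ∧ q (sec t) = t := fun t => by
    constructor
    · rw [← Scheme.Hom.comp_apply, pullback.lift_fst]
    · rw [← Scheme.Hom.comp_apply, pullback.lift_snd]; rfl
  have hw : IsDomain ((pullback f u').presheaf.stalk (sec (closedPoint R'))) := by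
    refine S3410.isDomain_stalk_dvr q _ (hsec _).2 (Flat.stalkMap q _)
      (S3410.isDomain_fibre_bc (IsPullback.of_hasPullback f u') _ ?_)
    have h2 : pullback.fst f u' (sec (closedPoint R')) ∈ piLocus f := ((hsec _).1.trans hv'c).symm ▸ h
    exact h2
  let η : Spec (CommRingCat.of R') := gen (closedPoint L)
  have hη : IsDomain ((pullback f u').presheaf.stalk (sec η)) :=
    ((specializes_closedPoint η).map sec.continuous).mem_open (S2530.isOpen_setOf_isDomain_stalk _) hw
  have hx' : v' η = x' := by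
    show (gen ≫ v') _ = x'
    rw [hgenv]
    exact (Scheme.Hom.comp_apply _ _ _).trans (hv' _)
  -- the generic fibre as a base change of the fibre over a finite extension
  let sL := Spec.map (CommRingCat.ofHom (algebraMap K₀ L))
  let f₀ := pullback.snd f pt₀
  let i := (pullbackLeftPullbackSndIso f pt₀ sL) ≪≫ pullback.congrHom rfl e ≪≫
    (pullbackLeftPullbackSndIso f u' gen).symm
  obtain ⟨g₀, hg₀⟩ : sec η ∈ Set.range (pullback.fst q gen) := by
    rw [Scheme.Pullback.range_fst]
    exact ⟨_, ((hsec η).2).symm⟩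
  obtain ⟨z, hz⟩ := i.hom.surjective g₀
  have hdomz : IsDomain ((pullback f₀ sL).presheaf.stalk z) := by
    haveI : IsDomain ((pullback q gen).presheaf.stalk g₀) :=
      (RingEquiv.ofBijective _ (GRLocus.stalkMap_bijective_of_flat (pullback.fst q gen) g₀)).toMulEquiv.isDomain_iff.mp
        (hg₀.symm ▸ hη)
    exact (asIso (i.hom.stalkMap z)).commRingCatIsoToRingEquiv.toMulEquiv.isDomain_iff.mp (hz.symm ▸ this)
  have hzx : (pullback.fst f₀ sL ≫ pullback.fst f pt₀) z = x' := by
    have hi : pullback.fst f₀ sL ≫ pullback.fst f pt₀ = i.hom ≫ pullback.fst q gen ≫ pullback.fst f u' := by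
      simp only [i, f₀, q, Iso.trans_hom, Iso.symm_hom, Category.assoc,
        pullbackLeftPullbackSndIso_inv_fst, pullback.congrHom_hom, pullback.lift_fst, Category.comp_id,
        pullbackLeftPullbackSndIso_hom_fst, pullback.map, u']
      erw [pullback.lift_fst]
      simp
    rw [hi, Scheme.Hom.comp_apply, Scheme.Hom.comp_apply, hz, hg₀, (hsec η).1, hx']
  -- above it, over an algebraic closure
  let Ω := AlgebraicClosure L
  let ω : Spec (CommRingCat.of Ω) ⟶ Spec (CommRingCat.of L) := Spec.map (CommRingCat.ofHom (algebraMap L Ω))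
  haveI : Surjective ω :=
    ⟨fun t => ⟨(closedPoint Ω : PrimeSpectrum Ω), Subsingleton.elim (α := PrimeSpectrum L) _ _⟩⟩
  let π := pullback.fst (pullback.snd f₀ sL) ω
  obtain ⟨p, rfl⟩ := π.surjective z
  have hpb := (IsPullback.of_hasPullback (pullback.snd f₀ sL) ω).paste_horiz
    ((IsPullback.of_hasPullback f₀ sL).paste_horiz (IsPullback.of_hasPullback f pt₀))
  have hap : (π ≫ pullback.fst f₀ sL ≫ pullback.fst f pt₀) p = x' := by
    rw [Scheme.Hom.comp_apply, hzx]
  rw [← hap, mem_piLocus_iff f hpb p]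
  refine isDomain_stalk_of_irreducible_preimage π p (fun Z hZ => hL Ω Z hZ) ?_ hdomz
  refine isReduced_stalk_of_mem_locus f hpb p ?_
  rw [hap]
  exact GRLocus.mem_locus_of_specializes f hxx (mem_locus_of_mem_piLocus f h)

theorem mem_piLocus_of_specializes [IsLocallyNoetherian Y] (f : X ⟶ Y) [Flat f] [LocallyOfFiniteType f]
    {x' x : X} (hxx : x' ⤳ x) (h : x ∈ piLocus f) : x' ∈ piLocus f := by
  haveI : IsLocallyNoetherian X := LocallyOfFiniteType.isLocallyNoetherian f
  obtain ⟨U, hU, hxU, -⟩ := exists_isAffineOpen_mem_and_subset (x := x) (U := ⊤) trivial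
  have hx'U : x' ∈ U := hxx.mem_open U.2 hxU
  haveI : CompactSpace ↥(U : Scheme.{u}) := isCompact_iff_compactSpace.mp hU.isCompact
  haveI : QuasiCompact (U.ι ≫ f) := quasiCompact_of_compactSpace _
  have hsp : (⟨x', hx'U⟩ : ↥(U : Scheme.{u})) ⤳ ⟨x, hxU⟩ :=
    U.ι.isEmbedding.specializes_iff.mp hxx
  exact (mem_piLocus_comp_open f U.ι ⟨x', hx'U⟩).1
    (mem_piLocus_of_specializes_aux (U.ι ≫ f) hsp ((mem_piLocus_comp_open f U.ι ⟨x, hxU⟩).2 h))

theorem isOpen_piLocus_of_limit {I : Type u} [SmallCategory I] [IsCofiltered I]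
    {D : I ⥤ Scheme.{u}} {c : Cone D} (hc : IsLimit c) [∀ i, IsAffine (D.obj i)]
    [∀ i, IsNoetherian (D.obj i)] [IsAffine c.pt] (f : X ⟶ c.pt)
    [LocallyOfFinitePresentation f] [QuasiCompact f] [QuasiSeparated f] [Flat f] : IsOpen (piLocus f) := by
  haveI := QuasiCompact.compactSpace_of_compactSpace f
  haveI := quasiSeparatedSpace_of_quasiSeparated f
  obtain ⟨i₀, X₀, u₀, g₀, a₀, b₀, c₀, s₀⟩ := LimLib.hasModel hc f
  haveI := a₀
  haveI := b₀
  haveI := c₀
  obtain ⟨i₁, φ₁, hfl⟩ := FlatDescends.descends_flat D c hc (fun i j a => inferInstance)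
    (fun i => inferInstance) (fun i => inferInstance) i₀ X₀ u₀ inferInstance inferInstance a₀ X g₀ f s₀
    (show Flat f from inferInstance)
  let u₁ := pullback.snd u₀ (D.map φ₁)
  haveI : Flat u₁ := hfl
  haveI : QuasiCompact u₀ := quasiCompact_of_compactSpace u₀
  haveI : CompactSpace ↥(pullback u₀ (D.map φ₁)) := QuasiCompact.compactSpace_of_compactSpace u₁
  haveI : LocallyOfFiniteType u₁ := inferInstance
  haveI : IsLocallyNoetherian (pullback u₀ (D.map φ₁)) := LocallyOfFiniteType.isLocallyNoetherian u₁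
  haveI : IsNoetherian (pullback u₀ (D.map φ₁)) := {}
  let g₁ : X ⟶ pullback u₀ (D.map φ₁) := pullback.lift g₀ (f ≫ c.π.app i₁)
    (by rw [s₀.w, Category.assoc, c.w])
  have s₁ : IsPullback g₁ f u₁ (c.π.app i₁) :=
    IsPullback.of_right (by simpa only [g₁, pullback.lift_fst, c.w] using s₀) (pullback.lift_snd _ _ _)
      (IsPullback.of_hasPullback u₀ (D.map φ₁))
  rw [show piLocus f = g₁ ⁻¹' piLocus u₁ from Set.ext fun x => mem_piLocus_baseChange s₁ x]
  refine IsOpen.preimage g₁.continuous (isOpen_iff_mem_nhds.mpr fun x hx => ?_)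
  exact SecDim.mem_nhds_of_generizations (isConstructible_piLocus_noetherian u₁).isLocallyConstructible
    fun x' hx' => mem_piLocus_of_specializes u₁ hx' hx

/-- The geometrically pointwise integral locus of a flat morphism of finite presentation is open. -/
theorem isOpen_piLocus (f : X ⟶ Y) [Flat f] [LocallyOfFinitePresentation f] : IsOpen (piLocus f) := by
  refine isOpen_iff_mem_nhds.mpr fun x hx => ?_
  obtain ⟨V, hV, hxV, -⟩ := exists_isAffineOpen_mem_and_subset (x := f x) (U := ⊤) trivial
  obtain ⟨U, hU, hxU, hUV'⟩ := exists_isAffineOpen_mem_and_subset (x := x) (U := f ⁻¹ᵁ V) hxV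
  have hUV : U ≤ f ⁻¹ᵁ V := hUV'
  obtain ⟨I, _, _, D, c, e, ⟨hc⟩, _, _⟩ := ConsPairLib.exists_noetherian_limit Γ(Y, V)
  haveI : IsAffine c.pt := .of_isIso e.hom
  haveI : IsAffine (U : Scheme.{u}) := hU
  let i : c.pt ≅ (V : Scheme.{u}) := e ≪≫ hV.isoSpec.symm
  let f' : (U : Scheme.{u}) ⟶ c.pt := f.resLE V U hUV ≫ i.inv
  have w : f' ≫ (i.hom ≫ V.ι) = U.ι ≫ f := by
    simp only [f', Category.assoc, Iso.inv_hom_id_assoc]
    exact Scheme.Hom.resLE_comp_ι f hUV
  haveI : Flat (f.resLE V U hUV) := inferInstance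
  haveI : LocallyOfFinitePresentation (f.resLE V U hUV) := inferInstance
  haveI : Flat f' := inferInstanceAs (Flat (f.resLE V U hUV ≫ i.inv))
  haveI : LocallyOfFinitePresentation f' :=
    inferInstanceAs (LocallyOfFinitePresentation (f.resLE V U hUV ≫ i.inv))
  haveI : IsAffineHom f' := isAffineHom_of_isAffine _
  have hopen := isOpen_piLocus_of_limit hc f'
  rw [show piLocus f' = U.ι ⁻¹' piLocus f from Set.ext fun z => mem_piLocus_restrict_iff w z] at hopen
  refine Filter.mem_of_superset ((U.ι.isOpenMap _ hopen).mem_nhds ⟨⟨x, hxU⟩, hx, rfl⟩) ?_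
  exact Set.image_preimage_subset _ _

end Groth.Agent.ProperConn
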