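import Groth.Agent.ProperConn.Basic
import Groth.Agent.S4645
import Groth.Agent.VarBC.SepFinite
import Groth.Agent.VarBC.Basic
import Groth.Agent.GeomPts.Basic
import Groth.Agent.RatMapExt.Valuative
import Groth.Agent.DVRDom.Basic
import Groth.Agent.SecComp.DVR

/-!
# Upper semicontinuity of geometric connected components with geometrically reduced special fibre
-/

set_option autoImplicit false
set_option linter.style.haveILetI false

universe u

open CategoryTheory CategoryTheory.Limits AlgebraicGeometry Topology TopologicalSpace IsLocalRing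

namespace Groth.Agent.ProperConn

/-- The geometric number of connected components is at most the number of components over some
finite extension of the ground field. -/
theorem exists_finite_card_le {k : Type u} [Field k] {X : Scheme.{u}}
    (f : X ⟶ Spec (CommRingCat.of k)) [LocallyOfFiniteType f] [QuasiCompact f] :
    ∃ (L : Type u) (_ : Field L) (_ : Algebra k L), FiniteDimensional k L ∧
      MoreMor.nGeomConnComp f (closedPoint k) ≤ ENat.card (_root_.ConnectedComponents
        ↥(pullback f (Spec.map (CommRingCat.ofHom (algebraMap k L))))) := by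
  letI : X.Over (Spec (CommRingCat.of k)) := ⟨f⟩
  haveI : IsLocallyNoetherian X := LocallyOfFiniteType.isLocallyNoetherian f
  haveI : CompactSpace ↥X := QuasiCompact.compactSpace_of_compactSpace f
  haveI : IsNoetherian X := {}
  haveI := finite_connectedComponents_of_noetherian (T := ↥X)
  have hfd : ∀ x : X, FBase.ResidueFieldProp f x
      (fun K _ _ ↦ FiniteDimensional k (separableClosure k K)) := fun x ↦ by
    refine ⟨Curv2.resMap k X x, (VarBC.fromSpecResidueField_comp (k := k) X x).symm, ?_⟩
    have h := GeomPts.essFiniteType_residueField f x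
    have e : Spec.preimage (X.fromSpecResidueField x ≫ f) = CommRingCat.ofHom (Curv2.resMap k X x) :=
      Spec.map_injective (by rw [Spec.map_preimage]; exact VarBC.fromSpecResidueField_comp (k := k) X x)
    rw [e] at h
    letI := (Curv2.resMap k X x).toAlgebra
    have : Algebra.EssFiniteType k (X.residueField x) := h
    exact VarBC.finiteDimensional_separableClosure
  obtain ⟨L, _, _, hfin, -, hL⟩ := S4645.result f fun c => by
    obtain ⟨x, rfl⟩ := ConnectedComponents.surjective_coe c
    exact ⟨x, rfl, hfd x⟩
  refine ⟨L, inferInstance, inferInstance, hfin, ?_⟩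
  let sL := Spec.map (CommRingCat.ofHom (algebraMap k L))
  let K := AlgebraicClosure L
  let sK : Spec (CommRingCat.of K) ⟶ Spec (CommRingCat.of L) :=
    Spec.map (CommRingCat.ofHom (algebraMap L K))
  let f' := pullback.snd f sL
  have hn : MoreMor.nGeomConnComp f (closedPoint k) =
      ENat.card (_root_.ConnectedComponents ↥(pullback f' sK)) := by
    rw [(SecComp.nGeom_eq f' sK).2]
    refine Eq.trans ?_ (Wt.GenFib.nGeom_baseChange (IsPullback.of_hasPullback f sL) _).2.symm
    congr 1
    exact Subsingleton.elim (α := PrimeSpectrum k) _ _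
  rw [hn]
  refine ENat.card_le_card_of_injective
    (f := (pullback.fst f' sK).continuous.connectedComponentsMap) fun a b hab => ?_
  obtain ⟨a, rfl⟩ := ConnectedComponents.surjective_coe a
  obtain ⟨b, rfl⟩ := ConnectedComponents.surjective_coe b
  rw [Continuous.connectedComponentsMap_mk, Continuous.connectedComponentsMap_mk] at hab
  have hc := hL K (pullback.fst f' sK a)
  have hb : b ∈ pullback.fst f' sK ⁻¹' connectedComponent (pullback.fst f' sK a) :=
    ConnectedComponents.coe_eq_coe'.1 hab.symm
  exact (ConnectedComponents.coe_eq_coe'.2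
    (hc.isPreconnected.subset_connectedComponent (show a ∈ _ from mem_connectedComponent) hb)).symm

variable {X Y : Scheme.{u}}

/-- Fibres at field points over a point with geometrically reduced fibre are reduced. -/
theorem isReduced_pullback (f : X ⟶ Y) {y : Y} (hred : GeometricallyReduced (f.fiberToSpecResidueField y))
    {K : Type u} [Field K] (pt : Spec (CommRingCat.of K) ⟶ Y) (h : pt (closedPoint K) = y) :
    AlgebraicGeometry.IsReduced (pullback f pt) := by
  obtain ⟨ψ, hψ⟩ : ∃ ψ : Spec (CommRingCat.of K) ⟶ Spec (Y.residueField y),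
      pt = ψ ≫ Y.fromSpecResidueField y := by
    subst h
    exact ⟨_, ((Y.SpecToEquivOfField K).symm_apply_apply pt).symm⟩
  let fy := f.fiberToSpecResidueField y
  have h2 : IsPullback (pullback.fst fy ψ ≫ f.fiberι y) (pullback.snd fy ψ) f pt := by
    rw [hψ]
    exact (IsPullback.of_hasPullback fy ψ).paste_horiz
      (IsPullback.of_hasPullback f (Y.fromSpecResidueField y))
  haveI : AlgebraicGeometry.IsReduced (pullback fy ψ) :=
    hred.geometrically_isReduced _ _ _ (IsPullback.of_hasPullback fy ψ)
  exact isReduced_of_isOpenImmersion h2.isoPullback.inv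

lemma isReduced_fiber_opens' {P T : Scheme.{u}} (q : P ⟶ T) (t : T) (Z : P.Opens)
    [AlgebraicGeometry.IsReduced (pullback q (T.fromSpecResidueField t))] :
    AlgebraicGeometry.IsReduced ((Z.ι ≫ q).fiber t) := by
  haveI : AlgebraicGeometry.IsReduced (pullback Z.ι (pullback.fst q (T.fromSpecResidueField t))) :=
    isReduced_of_isOpenImmersion (pullback.snd Z.ι (pullback.fst q (T.fromSpecResidueField t)))
  have h2 : AlgebraicGeometry.IsReduced (pullback (Z.ι ≫ q) (T.fromSpecResidueField t)) :=
    isReduced_of_isOpenImmersion (pullbackRightPullbackFstIso q (T.fromSpecResidueField t) Z.ι).inv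
  exact h2

lemma isReduced_fiber_opens (f : X ⟶ Y) {y : Y} (hred : GeometricallyReduced (f.fiberToSpecResidueField y))
    {T : Scheme.{u}} (u' : T ⟶ Y) (t : T) (ht : u' t = y) (Z : (pullback f u').Opens) :
    AlgebraicGeometry.IsReduced ((Z.ι ≫ pullback.snd f u').fiber t) := by
  haveI : AlgebraicGeometry.IsReduced (pullback f (T.fromSpecResidueField t ≫ u')) :=
    isReduced_pullback f hred (K := T.residueField t) _
      ((congrArg u' (Scheme.fromSpecResidueField_apply _ _)).trans ht)
  haveI : AlgebraicGeometry.IsReduced (pullback (pullback.snd f u') (T.fromSpecResidueField t)) :=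
    isReduced_of_isOpenImmersion (pullbackLeftPullbackSndIso f u' (T.fromSpecResidueField t)).hom
  exact isReduced_fiber_opens' (pullback.snd f u') t Z

/-- Over a discrete valuation ring: the components of the generic fibre are at most as many as the
geometric components of the closed fibre. -/
theorem card_generic_le (f : X ⟶ Y) [IsProper f] {y : Y}
    (h : ∀ x : X, f x = y → EGA43.IsUnivOpenAt f x)
    (hred : GeometricallyReduced (f.fiberToSpecResidueField y))
    (R' : Type u) [CommRing R'] [IsDomain R'] [IsDiscreteValuationRing R']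
    (L : Type u) [Field L] [Algebra R' L] [IsFractionRing R' L]
    (u' : Spec (CommRingCat.of R') ⟶ Y) (hu'c : u' (closedPoint R') = y) :
    ENat.card (_root_.ConnectedComponents ↥(pullback f
      (Spec.map (CommRingCat.ofHom (algebraMap R' L)) ≫ u'))) ≤ MoreMor.nGeomConnComp f y := by
  let q := pullback.snd f u'
  haveI : IsProper q := inferInstanceAs (IsProper (pullback.snd f u'))
  haveI : IsLocallyNoetherian (pullback f u') := LocallyOfFiniteType.isLocallyNoetherian q
  haveI : CompactSpace ↥(pullback f u') := QuasiCompact.compactSpace_of_compactSpace q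
  haveI : IsNoetherian (pullback f u') := {}
  have hopenC : ∀ w : ↥(pullback f u'), IsOpen (connectedComponent w) :=
    SchPoints.isOpen_connectedComponent_of_noetherian
  have ht : ∀ t : PrimeSpectrum R', t = closedPoint R' ∨ t = ⊥ := fun t => by
    rcases eq_or_ne t.asIdeal ⊥ with h0 | h0
    · exact Or.inr (PrimeSpectrum.ext h0)
    · exact Or.inl (PrimeSpectrum.ext (eq_maximalIdeal (IsPrime.to_maximal_ideal (hpi := t.isPrime) h0)))
  -- closed fibre
  let res : Spec (CommRingCat.of (ResidueField R')) ⟶ Spec (CommRingCat.of R') :=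
    Spec.map (CommRingCat.ofHom (residue R'))
  have hres : ∀ t, res t = closedPoint R' := fun t => PrimeSpectrum.ext (by
    show t.asIdeal.comap (residue R') = maximalIdeal R'
    rw [(Ideal.eq_bot_or_top t.asIdeal).resolve_right t.2.ne_top, ← RingHom.ker_eq_comap_bot]
    exact ker_residue)
  let P := pullback q res
  have hP : ENat.card (_root_.ConnectedComponents ↥P) ≤ MoreMor.nGeomConnComp f y := by
    let Ω := AlgebraicClosure (ResidueField R')
    let ω : Spec (CommRingCat.of Ω) ⟶ Spec (CommRingCat.of (ResidueField R')) :=
      Spec.map (CommRingCat.ofHom (algebraMap (ResidueField R') Ω))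
    haveI : Surjective ω :=
      ⟨fun t => ⟨(closedPoint Ω : PrimeSpectrum Ω), Subsingleton.elim (α := PrimeSpectrum (ResidueField R')) _ _⟩⟩
    have hpb := (IsPullback.of_hasPullback q res).paste_horiz (IsPullback.of_hasPullback f u')
    have hn : ENat.card (_root_.ConnectedComponents ↥(pullback (pullback.snd q res) ω)) =
        MoreMor.nGeomConnComp f y := by
      rw [(SecComp.nGeom_eq (pullback.snd q res) ω).2, (Wt.GenFib.nGeom_baseChange hpb _).2]
      congr 1
      exact (congrArg u' (hres _)).trans hu'c
    rw [← hn]
    refine card_le_of_surjective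
      (f := (pullback.fst (pullback.snd q res) ω).continuous.connectedComponentsMap) fun c => ?_
    obtain ⟨a, rfl⟩ := ConnectedComponents.surjective_coe c
    obtain ⟨b, rfl⟩ := (pullback.fst (pullback.snd q res) ω).surjective a
    exact ⟨_, Continuous.connectedComponentsMap_mk _ b⟩
  have hPX : ENat.card (_root_.ConnectedComponents ↥(pullback f u')) ≤
      ENat.card (_root_.ConnectedComponents ↥P) := by
    refine card_le_of_surjective (f := (pullback.fst q res).continuous.connectedComponentsMap) fun c => ?_
    obtain ⟨w, rfl⟩ := ConnectedComponents.surjective_coe c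
    obtain ⟨z, hz, hqz⟩ : closedPoint R' ∈ q '' connectedComponent w :=
      (specializes_closedPoint (q w)).mem_closed (q.isClosedMap _ isClosed_connectedComponent)
        ⟨w, mem_connectedComponent, rfl⟩
    have hzr : z ∈ Set.range (pullback.fst q res) := by
      refine (Hens.ProperClopenLift.range_fst_mk (maximalIdeal R') q).ge ?_
      show q z ∈ PrimeSpectrum.zeroLocus _
      rw [hqz]
      exact fun _ => id
    obtain ⟨p, rfl⟩ := hzr
    refine ⟨ConnectedComponents.mk p, ?_⟩
    rw [Continuous.connectedComponentsMap_mk]
    exact ConnectedComponents.coe_eq_coe'.2 hz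
  -- generic fibre
  let gen : Spec (CommRingCat.of L) ⟶ Spec (CommRingCat.of R') :=
    Spec.map (CommRingCat.ofHom (algebraMap R' L))
  haveI : IsPreimmersion gen := IsPreimmersion.of_isLocalization (nonZeroDivisors R')
  let G := pullback q gen
  rw [← Wt.GenFib.card_connectedComponents_of_homeomorph
    (Scheme.homeoOfIso (pullbackLeftPullbackSndIso f u' gen))]
  refine le_trans ?_ (hPX.trans hP)
  let j : G ⟶ pullback f u' := pullback.fst q gen
  refine ENat.card_le_card_of_injective (f := j.continuous.connectedComponentsMap) fun a b hab => ?_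
  obtain ⟨a, rfl⟩ := ConnectedComponents.surjective_coe a
  obtain ⟨b, rfl⟩ := ConnectedComponents.surjective_coe b
  rw [Continuous.connectedComponentsMap_mk, Continuous.connectedComponentsMap_mk] at hab
  have hb : j b ∈ connectedComponent (j a) := ConnectedComponents.coe_eq_coe'.1 hab.symm
  let Z : (pullback f u').Opens := ⟨connectedComponent (j a), hopenC _⟩
  let qZ := Z.ι ≫ q
  haveI : PreconnectedSpace ↥(Z : Scheme.{u}) :=
    Subtype.preconnectedSpace isPreconnected_connectedComponent
  haveI : IsLocallyNoetherian (Z : Scheme.{u}) := inferInstance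
  have hfib : AlgebraicGeometry.IsReduced (qZ.fiber (closedPoint R')) :=
    isReduced_fiber_opens f hred u' (closedPoint R') hu'c Z
  have hdense : Dense (qZ ⁻¹' {genericPoint (Spec (CommRingCat.of R'))}) := by
    rw [genericPoint_eq_bot_of_affine]
    refine dense_iff_inter_open.2 fun U hU ⟨z, hz⟩ => ?_
    rcases ht (qZ z) with hc | hb
    · have hfz : f (pullback.fst f u' (Z.ι z)) = y := by
        rw [← Scheme.Hom.comp_apply, pullback.condition, Scheme.Hom.comp_apply]
        exact (congrArg u' hc).trans hu'c
      have hn := h _ hfz _ u' (Z.ι z) rfl (Z.ι '' U)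
        ((Z.ι.isOpenEmbedding.isOpenMap U hU).mem_nhds ⟨z, hz, rfl⟩)
      rw [show (pullback.snd f u').base (Z.ι z) = closedPoint R' from hc] at hn
      obtain ⟨_, ⟨z', hz', rfl⟩, hqz⟩ := eq_top_of_closedPoint_mem hn (⊥ : PrimeSpectrum R')
      exact ⟨z', hz', hqz⟩
    · exact ⟨z, hz, hb⟩
  have hpre := SecComp.DVR.isPreconnected_generic R' qZ hfib hdense
  have hrange : Set.range j = q ⁻¹' {(⊥ : PrimeSpectrum R')} := by
    rw [Scheme.Pullback.range_fst]
    congr 1
    ext t
    constructor
    · rintro ⟨s, rfl⟩
      refine PrimeSpectrum.ext ?_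
      show s.asIdeal.comap (algebraMap R' L) = ⊥
      rw [(Ideal.eq_bot_or_top s.asIdeal).resolve_right s.2.ne_top]
      exact Ideal.comap_bot_of_injective _ (IsFractionRing.injective R' L)
    · rintro rfl
      exact ⟨(⊥ : PrimeSpectrum L), PrimeSpectrum.ext
        (Ideal.comap_bot_of_injective _ (IsFractionRing.injective R' L))⟩
  have hC : _root_.IsPreconnected (j ⁻¹' connectedComponent (j a)) := by
    rw [← j.isEmbedding.isInducing.isPreconnected_image, Set.image_preimage_eq_inter_range]
    have e : connectedComponent (j a) ∩ Set.range j =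
        Z.ι '' (qZ ⁻¹' {genericPoint (Spec (CommRingCat.of R'))}) := by
      rw [genericPoint_eq_bot_of_affine, hrange]
      ext w
      constructor
      · rintro ⟨hw, hqw⟩
        exact ⟨⟨w, hw⟩, hqw, rfl⟩
      · rintro ⟨w, hw, rfl⟩
        exact ⟨w.2, hw⟩
    rw [e]
    exact hpre.image _ Z.ι.continuous.continuousOn
  exact (ConnectedComponents.coe_eq_coe'.2
    (hC.subset_connectedComponent (show a ∈ _ from mem_connectedComponent) hb)).symm


/-- A proper morphism, universally open along a geometrically reduced fibre over `y`: the geometric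
number of connected components does not drop under specialization to `y`. -/
theorem ge_of_specializes [IsLocallyNoetherian Y] (f : X ⟶ Y) [IsProper f] {y' y : Y} (hyy : y' ⤳ y)
    (h : ∀ x : X, f x = y → EGA43.IsUnivOpenAt f x)
    (hred : GeometricallyReduced (f.fiberToSpecResidueField y)) :
    MoreMor.nGeomConnComp f y' ≤ MoreMor.nGeomConnComp f y := by
  rcases eq_or_ne y' y with rfl | hne
  · exact le_rfl
  obtain ⟨R, _, _, _, u, hu, hu'⟩ := RatMapExt.exists_dvr_of_specializes hyy hne
  let K₀ := FractionRing R
  let pt₀ : Spec (CommRingCat.of K₀) ⟶ Y := Spec.map (CommRingCat.ofHom (algebraMap R K₀)) ≫ u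
  obtain ⟨L, _, _, _, hLe⟩ := exists_finite_card_le (pullback.snd f pt₀)
  replace hLe := ((congrArg (MoreMor.nGeomConnComp f) (hu' _)).symm.trans
    (Wt.GenFib.nGeom_baseChange (IsPullback.of_hasPullback f pt₀) (closedPoint K₀)).2.symm).trans_le hLe
  letI : Algebra R L := ((algebraMap K₀ L).comp (algebraMap R K₀)).toAlgebra
  haveI : IsScalarTower R K₀ L := IsScalarTower.of_algebraMap_eq' rfl
  obtain ⟨R', hR', hRR', hmR'⟩ := DVRDom.exists_dvr_dominating R (IsDiscreteValuationRing.not_isField R)
    K₀ L (IntermediateField.fg_top_iff.mpr inferInstance)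
  haveI := hR'
  let φ : R →+* R' := (algebraMap R L).codRestrict R'.toSubring hRR'
  let u' : Spec (CommRingCat.of R') ⟶ Y := Spec.map (CommRingCat.ofHom φ) ≫ u
  have hu'c : u' (closedPoint R') = y := by
    refine (congrArg u ?_).trans hu
    refine PrimeSpectrum.ext ?_
    show (maximalIdeal R').comap φ = maximalIdeal R
    refine ((maximalIdeal.isMaximal R).eq_of_le (Ideal.IsPrime.comap φ).ne_top fun a ha => ?_).symm
    rw [Ideal.mem_comap, R'.valuation_lt_one_iff]
    exact hmR' a ha
  let gen : Spec (CommRingCat.of L) ⟶ Spec (CommRingCat.of R') :=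
    Spec.map (CommRingCat.ofHom (algebraMap R' L))
  have e : Spec.map (CommRingCat.ofHom (algebraMap K₀ L)) ≫ pt₀ = gen ≫ u' := by
    simp only [pt₀, gen, u', ← Category.assoc, ← Spec.map_comp]
    rfl
  refine (hLe.trans_eq ?_).trans (card_generic_le f h hred R' L u' hu'c)
  exact Wt.GenFib.card_connectedComponents_of_homeomorph
    (Scheme.homeoOfIso (pullbackLeftPullbackSndIso f pt₀ _ ≪≫ pullback.congrHom rfl e))

/-- Constancy near `y` of the geometric number of connected components. -/
theorem eventually_eq [IsLocallyNoetherian Y] (f : X ⟶ Y) [IsProper f] (y : Y)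
    (h : ∀ x : X, f x = y → EGA43.IsUnivOpenAt f x)
    (hred : GeometricallyReduced (f.fiberToSpecResidueField y)) :
    {z | MoreMor.nGeomConnComp f z = MoreMor.nGeomConnComp f y} ∈ nhds y :=
  SecDim.mem_nhds_of_generizations (Wt.GenFib.isLocallyConstructible_nGeomConnComp f _)
    fun _ hy => le_antisymm (ge_of_specializes f hy h hred) (le_of_specializes f hy h)

end Groth.Agent.ProperConn
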